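import Mathlib
import Cfsg.Prelude.Def_Characters
import Cfsg.Prelude.Def_Blocks
import Cfsg.Agent.Characters.Core
import Cfsg.Agent.Characters.Central
import Cfsg.Agent.Characters.SchurBound
import Cfsg.Agent.H686.CharKit
import Cfsg.Agent.Characters.Linear

/-!
# Products of `p`-elements (S2454)

* `IsPE p g` : `g` has `p`-power order; `PE p m g` : `g` is a product of `m` elements of `p`-power order;
  `PW p m G` : every element of `G` is such a product.
* `MinDeg G d` : every irreducible complex representation of degree `≥ 2` has degree `≥ d` (the form of S2332 - S2347).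
* `PW.of_pe` (**K**): `G` perfect, `PE p m y`, `MinDeg G d`, `(|C_G(y)| - 1)^k < d^(2k-4)`, `3 ≤ k` : `PW p (m*k) G`.
* `PW.of_classes` (**C**): a finite simple group with at most `c+1` classes has `PW p c`.
* `PE.of_z` : elements known modulo a central subgroup.
* `PW.dth` : reduction of S2454.
-/

set_option autoImplicit false

namespace Cfsg.Agent.H514.DP

open Cfsg Cfsg.Agent.Characters Cfsg.Agent.H686.CharKit Subgroup
open scoped ComplexConjugate

universe u v

/-- `g` has `p`-power order (`1` included). -/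
def IsPE {G : Type*} [Group G] (p : ℕ) (g : G) : Prop := ∃ k : ℕ, g ^ p ^ k = 1

/-- `g` is a product of `m` elements of `p`-power order. -/
def PE {G : Type*} [Group G] (p : ℕ) : ℕ → G → Prop
  | 0, g => g = 1
  | m + 1, g => ∃ a b : G, IsPE p a ∧ PE p m b ∧ a * b = g

/-- every element of `G` is a product of `m` elements of `p`-power order. -/
def PW (p m : ℕ) (G : Type*) [Group G] : Prop := ∀ g : G, PE p m g

/-- every irreducible complex representation of degree at least two has degree at least `d`. -/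
def MinDeg (G : Type*) [Group G] (d : ℕ) : Prop :=
  ∀ (k : ℕ) (ρ : Representation ℂ G (Fin k → ℂ)), ρ.IsIrreducible → 2 ≤ k → d ≤ k

section Basic

variable {G : Type*} [Group G] {H : Type*} [Group H] {p : ℕ}

theorem isPE_one : IsPE p (1 : G) := ⟨0, by simp⟩

theorem IsPE.map {g : G} (h : IsPE p g) (f : G →* H) : IsPE p (f g) := by
  obtain ⟨k, hk⟩ := h
  exact ⟨k, by rw [← map_pow, hk, map_one]⟩

theorem IsPE.conj {g : G} (h : IsPE p g) (x : G) : IsPE p (x * g * x⁻¹) := by
  obtain ⟨k, hk⟩ := h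
  exact ⟨k, by rw [conj_pow, hk]; group⟩

theorem IsPE.inv {g : G} (h : IsPE p g) : IsPE p g⁻¹ := by
  obtain ⟨k, hk⟩ := h
  exact ⟨k, by rw [inv_pow, hk, inv_one]⟩

theorem IsPE.mul {a b : G} (ha : IsPE p a) (hb : IsPE p b) (hc : Commute a b) : IsPE p (a * b) := by
  obtain ⟨k, hk⟩ := ha
  obtain ⟨l, hl⟩ := hb
  refine ⟨k + l, ?_⟩
  rw [hc.mul_pow, pow_add, pow_mul, hk, one_pow, one_mul, mul_comm (p ^ k) (p ^ l), pow_mul, hl, one_pow]

theorem IsPE.pow {g : G} (h : IsPE p g) (n : ℕ) : IsPE p (g ^ n) := by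
  obtain ⟨k, hk⟩ := h
  exact ⟨k, by rw [← pow_mul, mul_comm, pow_mul, hk, one_pow]⟩

theorem IsPE.of_orderOf {g : G} {k : ℕ} (h : orderOf g = p ^ k) : IsPE p g := ⟨k, by rw [← h, pow_orderOf_eq_one]⟩

theorem IsPE.of_prime {g : G} (h : orderOf g = p) : IsPE p g := IsPE.of_orderOf (k := 1) (by rw [h, pow_one])

theorem IsPE.of_inj {f : G →* H} (hf : Function.Injective f) {g : G} (h : IsPE p (f g)) : IsPE p g := by
  obtain ⟨k, hk⟩ := h
  exact ⟨k, hf (by rw [map_pow, hk, map_one])⟩

@[simp] theorem pe_zero {g : G} : PE p 0 g ↔ g = 1 := Iff.rfl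

theorem pe_succ {m : ℕ} {g : G} : PE p (m + 1) g ↔ ∃ a b : G, IsPE p a ∧ PE p m b ∧ a * b = g := Iff.rfl

theorem pe_one_elt (m : ℕ) : PE p m (1 : G) := by
  induction m with
  | zero => rfl
  | succ m ih => exact ⟨1, 1, isPE_one, ih, by simp⟩

theorem IsPE.pe {g : G} (h : IsPE p g) : PE p 1 g := ⟨g, 1, h, rfl, by simp⟩

theorem PE.mul {m n : ℕ} {a b : G} (ha : PE p m a) (hb : PE p n b) : PE p (m + n) (a * b) := by
  induction m generalizing a with
  | zero => rw [pe_zero.1 ha, one_mul, zero_add]; exact hb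
  | succ m ih =>
    obtain ⟨x, y, hx, hy, rfl⟩ := ha
    rw [Nat.succ_add]
    exact ⟨x, y * b, hx, ih hy, by rw [mul_assoc]⟩

theorem PE.mono {m n : ℕ} {a : G} (ha : PE p m a) (h : m ≤ n) : PE p n a := by
  obtain ⟨k, rfl⟩ := Nat.exists_eq_add_of_le h
  simpa using ha.mul (pe_one_elt k)

theorem PE.map {m : ℕ} {a : G} (ha : PE p m a) (f : G →* H) : PE p m (f a) := by
  induction m generalizing a with
  | zero => rw [pe_zero.1 ha, map_one]; rfl
  | succ m ih =>
    obtain ⟨x, y, hx, hy, rfl⟩ := ha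
    exact ⟨f x, f y, hx.map f, ih hy, by rw [map_mul]⟩

theorem PE.conj {m : ℕ} {a : G} (ha : PE p m a) (x : G) : PE p m (x * a * x⁻¹) := by
  simpa using ha.map (MulAut.conj x).toMonoidHom

theorem PE.of_isConj {m : ℕ} {a b : G} (ha : PE p m a) (h : IsConj a b) : PE p m b := by
  obtain ⟨c, rfl⟩ := isConj_iff.1 h
  exact ha.conj c

/-- products of commuting products of `m` `p`-elements, taken in commuting subgroups. -/
theorem PE.mul_comm_sub {m : ℕ} {A B : Subgroup G} (hAB : ∀ a ∈ A, ∀ b ∈ B, Commute a b) {a : A} {b : B}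
    (ha : PE p m a) (hb : PE p m b) : PE p m ((a : G) * b) := by
  induction m generalizing a b with
  | zero => rw [pe_zero.1 ha, pe_zero.1 hb]; simp
  | succ m ih =>
    obtain ⟨x, y, hx, hy, rfl⟩ := ha
    obtain ⟨x', y', hx', hy', rfl⟩ := hb
    refine ⟨x * x', y * y', ?_, ih hy hy', ?_⟩
    · exact (hx.map A.subtype).mul (hx'.map B.subtype) (hAB x x.2 x' x'.2)
    · have := hAB y y.2 x' x'.2
      push_cast
      calc (x : G) * x' * (y * y') = x * (x' * y) * y' := by group
        _ = x * (y * x') * y' := by rw [this.eq]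
        _ = _ := by group

theorem PW.mono {m n : ℕ} (h : PW p m G) (hmn : m ≤ n) : PW p n G := fun g => (h g).mono hmn

theorem PW.map {m : ℕ} (h : PW p m G) (f : G →* H) (hf : Function.Surjective f) : PW p m H := fun g => by
  obtain ⟨x, rfl⟩ := hf g
  exact (h x).map f

theorem PW.congr {m : ℕ} (h : PW p m G) (f : G ≃* H) : PW p m H := h.map f.toMonoidHom f.surjective

theorem PW.pe {m : ℕ} (h : PW p m G) (f : G →* H) (g : G) : PE p m (f g) := (h g).map f

theorem PE.exists_list {m : ℕ} {g : G} (h : PE p m g) : ∃ l : List G, l.length = m ∧ (∀ x ∈ l, IsPE p x) ∧ l.prod = g := by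
  induction m generalizing g with
  | zero => exact ⟨[], rfl, by simp, by rw [pe_zero.1 h]; rfl⟩
  | succ m ih =>
    obtain ⟨x, y, hx, hy, rfl⟩ := h
    obtain ⟨l, h1, h2, h3⟩ := ih hy
    refine ⟨x :: l, by simp [h1], ?_, by rw [List.prod_cons, h3]⟩
    intro z hz
    rcases List.mem_cons.1 hz with rfl | hz
    · exact hx
    · exact h2 z hz

/-- a `p`-element is a `d`-th power if `p` does not divide `d`. -/
theorem IsPE.exists_pow [Finite G] {g : G} (hp : p.Prime) (h : IsPE p g) {d : ℕ} (hd : ¬ p ∣ d) : ∃ x : G, x ^ d = g := by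
  obtain ⟨k, hk⟩ := h
  have h1 : orderOf g ∣ p ^ k := orderOf_dvd_of_pow_eq_one hk
  have h2 : (orderOf g).Coprime d := by
    refine Nat.Coprime.coprime_dvd_left h1 ?_
    exact Nat.Coprime.pow_left k ((Nat.Prime.coprime_iff_not_dvd hp).2 hd)
  obtain ⟨m, hm⟩ := exists_pow_eq_self_of_coprime h2.symm
  exact ⟨g ^ m, by rw [← pow_mul, mul_comm, pow_mul, hm]⟩

/-- The reduction of S2454. -/
theorem PW.dth [Finite G] {m : ℕ} (hp : p.Prime) (h : PW p m G) {d : ℕ} (hd : ¬ p ∣ d) (g : G) :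
    ∃ l : List G, l.length ≤ m ∧ (l.map (fun x => x ^ d)).prod = g := by
  classical
  obtain ⟨l, h1, h2, h3⟩ := (h g).exists_list
  choose! f hf using fun (x : G) (hx : x ∈ l) => (h2 x hx).exists_pow hp hd
  refine ⟨l.map f, by simp [h1], ?_⟩
  rw [List.map_map, ← h3]
  congr 1
  conv_rhs => rw [← List.map_id l]
  exact List.map_congr_left fun x hx => hf x hx

/-- An element of order prime to the order of a central subgroup `Z`: if `y z` is a product of `p`-elements for some central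
`z`, then the centralizer of `y z` is contained in the centralizer of `y`. -/
theorem centralizer_mul_le {y z : G} (hz : z ∈ center G) {n : ℕ} (hzn : z ^ n = 1) (hyn : (orderOf y).Coprime n) :
    centralizer ({y * z} : Set G) ≤ centralizer {y} := by
  intro g hg
  rw [mem_centralizer_singleton_iff] at hg ⊢
  have hcomm : Commute y z := ((mem_center_iff.1 hz) y)
  have h1 : (y * z) ^ n = y ^ n := by rw [hcomm.mul_pow, hzn, mul_one]
  have h2 : Commute g (y ^ n) := by
    rw [← h1]
    exact (show Commute g (y * z) from hg).pow_right n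
  obtain ⟨m, hm⟩ := exists_pow_eq_self_of_coprime hyn.symm
  have h3 := h2.pow_right m
  rw [hm] at h3
  exact h3

end Basic

/-! ### Class counting -/

section Classes

variable {G : Type*} [Group G] {p : ℕ}

/-- **C**: if a finite group is generated by its `p`-elements as a monoid, and has at most `c + 1` classes, every element is
a product of `c` `p`-elements. -/
theorem PW.of_step [Finite G] (hgen : ∀ g : G, ∃ m, PE p m g) {c : ℕ} (hc : Nat.card (ConjClasses G) ≤ c + 1) :
    PW p c G := by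
  classical
  have := Fintype.ofFinite G
  -- the sets of classes
  let S : ℕ → Set (ConjClasses G) := fun m => {x | ∃ g : G, ConjClasses.mk g = x ∧ PE p m g}
  have hmono : ∀ m, S m ⊆ S (m + 1) := by
    rintro m x ⟨g, h1, h2⟩
    exact ⟨g, h1, h2.mono (Nat.le_succ m)⟩
  have hmem : ∀ m g, ConjClasses.mk g ∈ S m ↔ PE p m g := by
    intro m g
    constructor
    · rintro ⟨x, h1, h2⟩
      exact h2.of_isConj (ConjClasses.mk_eq_mk_iff_isConj.1 h1)
    · intro h
      exact ⟨g, rfl, h⟩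
  have hstab : ∀ m, S m = S (m + 1) → ∀ n, m ≤ n → S n = S m := by
    intro m h n hn
    obtain ⟨k, rfl⟩ := Nat.exists_eq_add_of_le hn
    clear hn
    induction k with
    | zero => rfl
    | succ k ih =>
      refine le_antisymm ?_ ?_
      · rintro x ⟨g, rfl, hg⟩
        obtain ⟨a, b, ha, hb, rfl⟩ := hg
        rw [h, hmem]
        refine ⟨a, b, ha, ?_, rfl⟩
        rw [← hmem, ← ih, hmem]
        exact hb
      · rw [← ih]
        exact hmono _
  have hcard : ∀ m, (∀ j < m, S j ≠ S (j + 1)) → m + 1 ≤ Nat.card (S m) := by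
    intro m
    induction m with
    | zero =>
      intro _
      have : Nonempty (S 0) := ⟨⟨ConjClasses.mk 1, (hmem 0 1).2 rfl⟩⟩
      exact Nat.card_pos
    | succ m ih =>
      intro h
      have h1 := ih fun j hj => h j (by omega)
      have h2 : S m ⊂ S (m + 1) := lt_of_le_of_ne (hmono m) (h m (by omega))
      have h3 : Nat.card (S m) < Nat.card (S (m + 1)) := by
        rw [Nat.card_coe_set_eq, Nat.card_coe_set_eq]
        exact Set.ncard_lt_ncard h2 (Set.toFinite _)
      omega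
  by_cases hall : ∀ j < c, S j ≠ S (j + 1)
  · have h1 := hcard c hall
    have h2 : S c = Set.univ := by
      refine Set.eq_univ_of_forall fun x => ?_
      by_contra hx
      have h3 : Nat.card (S c) < Nat.card (ConjClasses G) := by
        rw [Nat.card_coe_set_eq, ← Set.ncard_univ]
        exact Set.ncard_lt_ncard ((Set.ssubset_univ_iff).2 fun h => hx (h ▸ Set.mem_univ x)) (Set.toFinite _)
      omega
    intro g
    rw [← hmem, h2]
    trivial
  · push Not at hall
    obtain ⟨j, hj, hj2⟩ := hall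
    intro g
    obtain ⟨m, hm⟩ := hgen g
    have h1 := hstab j hj2 (max m j) (le_max_right _ _)
    have h2 : PE p j g := by
      rw [← hmem, ← h1, hmem]
      exact hm.mono (le_max_left _ _)
    exact h2.mono hj.le

theorem PE.inv {m : ℕ} {a : G} (ha : PE p m a) : PE p m a⁻¹ := by
  induction m generalizing a with
  | zero => rw [pe_zero.1 ha, inv_one]; rfl
  | succ m ih =>
    obtain ⟨x, y, hx, hy, rfl⟩ := ha
    rw [mul_inv_rev]
    have := (ih hy).mul (hx.inv.pe)
    exact this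

/-- in a simple group of order divisible by `p` the products of `p`-elements are everything. -/
theorem exists_pe [Finite G] [IsSimpleGroup G] (hp : p.Prime) (hd : p ∣ Nat.card G) (g : G) : ∃ m, PE p m g := by
  have : Fact p.Prime := ⟨hp⟩
  let N : Subgroup G :=
    { carrier := {g | ∃ m, PE p m g}
      one_mem' := ⟨0, rfl⟩
      mul_mem' := by
        rintro a b ⟨m, hm⟩ ⟨n, hn⟩
        exact ⟨m + n, hm.mul hn⟩
      inv_mem' := by
        rintro a ⟨m, hm⟩
        exact ⟨m, hm.inv⟩ }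
  have hN : N.Normal := ⟨fun a ⟨m, hm⟩ x => ⟨m, hm.conj x⟩⟩
  obtain ⟨x, hx⟩ := exists_prime_orderOf_dvd_card' p hd
  have hxN : x ∈ N := ⟨1, (IsPE.of_prime hx).pe⟩
  rcases hN.eq_bot_or_eq_top with h | h
  · exfalso
    rw [h, mem_bot] at hxN
    rw [hxN, orderOf_one] at hx
    exact hp.one_lt.ne hx
  · have : g ∈ N := by rw [h]; trivial
    exact this

/-- **C** for simple groups. -/
theorem PW.of_classes [Finite G] [IsSimpleGroup G] (hp : p.Prime) (hd : p ∣ Nat.card G) {c : ℕ}
    (hc : Nat.card (ConjClasses G) ≤ c + 1) : PW p c G :=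
  PW.of_step (exists_pe hp hd) hc

end Classes

/-! ### The criterion K -/

section Crit

variable {G : Type u} [Group G]

theorem MinDeg.le {d : ℕ} (h : MinDeg G d) [Finite G] {χ : G → ℂ} (hχ : IsIrrCharacter G χ) (h1 : χ 1 ≠ 1) :
    ∃ n : ℕ, d ≤ n ∧ 0 < n ∧ χ 1 = n := by
  obtain ⟨n, ρ, hρ, rfl⟩ := hχ
  obtain ⟨m, hm, hm1⟩ := Core.isIrr_apply_one (G := G) ⟨n, ρ, hρ, rfl⟩
  have h2 : ρ.character 1 = n := by
    rw [Representation.char_one]
    simp
  have h3 : m = n := by exact_mod_cast hm1.symm.trans h2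
  subst h3
  have h4 : m ≠ 1 := by
    rintro rfl
    exact h1 (by rw [hm1]; simp)
  exact ⟨m, h m ρ hρ (by omega), hm, hm1⟩

theorem eq_one_of_perf [Finite G] (hp : commutator G = ⊤) {χ : G → ℂ} (hχ : IsIrrCharacter G χ) (h1 : χ 1 = 1) :
    χ = 1 := by
  obtain ⟨f, hf⟩ := Linear.exists_hom_of_isIrrCharacter hχ h1
  have h2 : ∀ x : G, f x = 1 := by
    intro x
    have : commutator G ≤ f.ker := by
      rw [commutator_def, Subgroup.commutator_le]
      intro a _ b _
      rw [MonoidHom.mem_ker, map_commutatorElement]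
      exact commutatorElement_eq_one_iff_mul_comm.2 (mul_comm _ _)
    rw [hp] at this
    exact this (Subgroup.mem_top x)
  rw [hf]
  funext x
  simp [h2]

/-- the class function counting `k`-tuples, up to the factor `|G|^(k-1)`. -/
noncomputable def F [Fintype (IrrCharacter G)] (y : G) (k : ℕ) (g : G) : ℂ :=
  ∑ χ : IrrCharacter G, (χ : G → ℂ) y ^ (k + 1) * conj ((χ : G → ℂ) g) / (χ : G → ℂ) 1 ^ k

theorem sum_F [Fintype G] [Fintype (IrrCharacter G)] (y : G) (k : ℕ) (g : G) :
    ∑ a : G, F y k ((a * y * a⁻¹)⁻¹ * g) = (Nat.card G : ℂ) * F y (k + 1) g := by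
  unfold F
  rw [Finset.sum_comm, Finset.mul_sum]
  refine Finset.sum_congr rfl fun χ _ => ?_
  have h1 : (χ : G → ℂ) 1 ≠ 0 := Core.isIrr_apply_one_ne_zero χ.2
  have h2 := Central.sum_char_conj_mul χ.2 y g⁻¹
  have h3 : ∀ a : G, conj ((χ : G → ℂ) ((a * y * a⁻¹)⁻¹ * g)) = (χ : G → ℂ) (a * y * a⁻¹ * g⁻¹) := by
    intro a
    rw [← Core.isCharacter_apply_inv (Core.isIrr_isCharacter χ.2)]
    rw [mul_inv_rev, inv_inv]
    have := Core.isIrr_isClassFunction χ.2 (g⁻¹ * (a * y * a⁻¹)) g
    rw [← this]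
    group
  simp only [h3]
  rw [← Finset.sum_div, ← Finset.mul_sum, h2, Core.isCharacter_apply_inv (Core.isIrr_isCharacter χ.2) g]
  field_simp
  ring

open scoped Classical in
theorem F_zero [Finite G] [Fintype (IrrCharacter G)] (y g : G) :
    F y 0 g = if IsConj y g then (Nat.card (centralizer ({g} : Set G)) : ℂ) else 0 := by
  unfold F
  simp only [zero_add, pow_one, pow_zero, div_one]
  exact col_orth y g

/-- if `g` is not a product of `k + 1` conjugates of `y`, the count is zero. -/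
theorem pe_of_F_ne_zero [Finite G] [Fintype (IrrCharacter G)] {p m : ℕ} {y : G} (hy : PE p m y) (k : ℕ) (g : G)
    (h : F y k g ≠ 0) : PE p (m * (k + 1)) g := by
  classical
  have := Fintype.ofFinite G
  induction k generalizing g with
  | zero =>
    rw [F_zero] at h
    split_ifs at h with hc
    · simpa using hy.of_isConj hc
    · exact absurd rfl h
  | succ k ih =>
    have h1 := sum_F y k g
    have hne : (Nat.card G : ℂ) ≠ 0 := by exact_mod_cast Nat.card_pos.ne'
    have h2 : ∑ a : G, F y k ((a * y * a⁻¹)⁻¹ * g) ≠ 0 := by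
      rw [h1]
      exact mul_ne_zero hne h
    obtain ⟨a, -, ha⟩ := Finset.exists_ne_zero_of_sum_ne_zero h2
    have h3 := (hy.conj a).mul (ih _ ha)
    rw [mul_inv_cancel_left] at h3
    have e : m * (k + 1 + 1) = m + m * (k + 1) := by ring
    rw [e]
    exact h3

/-- **K**. -/
theorem PW.of_pe [Finite G] (hperf : commutator G = ⊤) {p m d k : ℕ} {y : G} (hy : PE p m y) (hd : MinDeg G d)
    (hk : 3 ≤ k) (hC : (Nat.card (centralizer ({y} : Set G)) - 1) ^ k < d ^ (2 * k - 4)) : PW p (m * k) G := by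
  classical
  intro g
  have := Core.finite_irr (G := G)
  have := Fintype.ofFinite (IrrCharacter G)
  obtain ⟨j, rfl⟩ := Nat.exists_eq_add_of_le' hk
  refine pe_of_F_ne_zero hy (j + 2) g ?_
  intro h0
  set C : ℝ := (Nat.card (centralizer ({y} : Set G)) : ℝ) - 1 with hCdef
  have hCpos : 1 ≤ Nat.card (centralizer ({y} : Set G)) := Nat.card_pos
  have hC0 : 0 ≤ C := by
    have : (1 : ℝ) ≤ Nat.card (centralizer ({y} : Set G)) := by exact_mod_cast hCpos
    linarith
  have hdpos : 0 < d := by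
    rcases Nat.eq_zero_or_pos d with rfl | h
    · rw [zero_pow (by omega)] at hC
      omega
    · exact h
  have hdr : (0 : ℝ) < d := by exact_mod_cast hdpos
  let one : IrrCharacter G := ⟨1, Core.isIrr_one⟩
  -- sum of squares of the nontrivial values
  have hsum : ∑ χ ∈ Finset.univ.erase one, ‖(χ : G → ℂ) y‖ ^ 2 = C := by
    have h1 := sum_normSq (G := G) y
    rw [← Finset.add_sum_erase _ _ (Finset.mem_univ one)] at h1
    have h2 : Complex.normSq ((one : G → ℂ) y) = 1 := by
      show Complex.normSq ((1 : G → ℂ) y) = 1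
      simp
    rw [h2] at h1
    have h3 : ∑ χ ∈ Finset.univ.erase one, ‖(χ : G → ℂ) y‖ ^ 2 =
        ∑ χ ∈ Finset.univ.erase one, Complex.normSq ((χ : G → ℂ) y) :=
      Finset.sum_congr rfl fun χ _ => by rw [Complex.normSq_eq_norm_sq]
    rw [h3]
    linarith
  have hval : ∀ χ ∈ Finset.univ.erase one, ‖(χ : G → ℂ) y‖ ^ 2 ≤ C := by
    intro χ hχ
    rw [← hsum]
    exact Finset.single_le_sum (f := fun χ : IrrCharacter G => ‖(χ : G → ℂ) y‖ ^ 2) (fun χ _ => by positivity) hχ
  -- the trivial character contributes 1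
  have hmain : F y (j + 2) g = 1 + ∑ χ ∈ Finset.univ.erase one,
      (χ : G → ℂ) y ^ (j + 3) * conj ((χ : G → ℂ) g) / (χ : G → ℂ) 1 ^ (j + 2) := by
    unfold F
    rw [← Finset.add_sum_erase _ _ (Finset.mem_univ one)]
    congr 1
    show (1 : G → ℂ) y ^ (j + 3) * conj ((1 : G → ℂ) g) / (1 : G → ℂ) 1 ^ (j + 2) = 1
    simp
  -- each other character
  have hterm : ∀ χ ∈ Finset.univ.erase one,
      ‖(χ : G → ℂ) y ^ (j + 3) * conj ((χ : G → ℂ) g) / (χ : G → ℂ) 1 ^ (j + 2)‖ ≤
        ‖(χ : G → ℂ) y‖ ^ 2 * (Real.sqrt C ^ (j + 1) / (d : ℝ) ^ (j + 1)) := by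
    intro χ hχ
    have hne : χ ≠ one := (Finset.mem_erase.1 hχ).1
    have h1 : (χ : G → ℂ) 1 ≠ 1 := by
      intro h
      exact hne (Subtype.ext (eq_one_of_perf hperf χ.2 h))
    obtain ⟨n, hn, hn0, hn1⟩ := hd.le χ.2 h1
    have hng : ‖(χ : G → ℂ) g‖ ≤ n :=
      SchurBound.norm_le (Core.isIrr_isCharacter χ.2) hn1 g
    have hnr : (0 : ℝ) < n := by exact_mod_cast hn0
    have hdn : (d : ℝ) ≤ n := by exact_mod_cast hn
    rw [norm_div, norm_mul, norm_pow, norm_pow, hn1, RCLike.norm_conj, Complex.norm_natCast]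
    have hy' : ‖(χ : G → ℂ) y‖ ≤ Real.sqrt C := Real.le_sqrt_of_sq_le (hval χ hχ)
    have h4 : ‖(χ : G → ℂ) y‖ ^ (j + 3) * ‖(χ : G → ℂ) g‖ / (n : ℝ) ^ (j + 2) ≤
        ‖(χ : G → ℂ) y‖ ^ (j + 3) * n / (n : ℝ) ^ (j + 2) := by gcongr
    refine h4.trans ?_
    have h5 : ‖(χ : G → ℂ) y‖ ^ (j + 3) * n / (n : ℝ) ^ (j + 2) =
        ‖(χ : G → ℂ) y‖ ^ 2 * (‖(χ : G → ℂ) y‖ ^ (j + 1) / (n : ℝ) ^ (j + 1)) := by
      field_simp
      ring
    rw [h5]
    gcongr
  have hbound : ‖∑ χ ∈ Finset.univ.erase one,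
      (χ : G → ℂ) y ^ (j + 3) * conj ((χ : G → ℂ) g) / (χ : G → ℂ) 1 ^ (j + 2)‖ ≤
      C * (Real.sqrt C ^ (j + 1) / (d : ℝ) ^ (j + 1)) := by
    refine (norm_sum_le _ _).trans ((Finset.sum_le_sum hterm).trans ?_)
    rw [← Finset.sum_mul, hsum]
  have hlt : C * (Real.sqrt C ^ (j + 1) / (d : ℝ) ^ (j + 1)) < 1 := by
    have h6 : C ^ (j + 3) < (d : ℝ) ^ (2 * (j + 1)) := by
      have h7 : ((Nat.card (centralizer ({y} : Set G)) - 1 : ℕ) : ℝ) = C := by
        rw [Nat.cast_sub hCpos, hCdef]; simp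
      rw [← h7]
      have e : 2 * (j + 3) - 4 = 2 * (j + 1) := by omega
      rw [e] at hC
      exact_mod_cast hC
    have h8 : 0 ≤ C * Real.sqrt C ^ (j + 1) := by positivity
    have h9 : (C * Real.sqrt C ^ (j + 1)) ^ 2 < ((d : ℝ) ^ (j + 1)) ^ 2 := by
      have : (C * Real.sqrt C ^ (j + 1)) ^ 2 = C ^ (j + 3) := by
        rw [mul_pow, ← pow_mul, mul_comm (j + 1) 2, pow_mul, Real.sq_sqrt hC0, ← pow_add]
        congr 1
        omega
      rw [this, ← pow_mul, mul_comm (j + 1) 2]
      exact h6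
    have h10 : C * Real.sqrt C ^ (j + 1) < (d : ℝ) ^ (j + 1) := lt_of_pow_lt_pow_left₀ 2 (by positivity) h9
    rw [← mul_div_assoc, div_lt_one (by positivity)]
    exact h10
  rw [hmain] at h0
  have h11 : ∑ χ ∈ Finset.univ.erase one,
      (χ : G → ℂ) y ^ (j + 3) * conj ((χ : G → ℂ) g) / (χ : G → ℂ) 1 ^ (j + 2) = -1 := by
    linear_combination h0
  rw [h11] at hbound
  simp only [norm_neg, norm_one] at hbound
  linarith

end Crit

end Cfsg.Agent.H514.DP
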