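import Mathlib
import Cfsg.Agent.H514.DP.Cyc
import Cfsg.Agent.S0242

/-!
# Products of `p`-elements in `SL_2(q)` (S2454)

* `pe_two_of_trace`: `p ∣ q² - 1`: every `M` with `tr² ≠ 4` is a product of two `p`-elements;
* `pe_three_of_nonscalar`: `p ∣ q² - 1`, `q ≥ 4`, or `p = char`: every non-scalar `M` is a product of three `p`-elements.
-/

set_option autoImplicit false
set_option linter.unusedSectionVars false

namespace Cfsg.Agent.H514.DP

open Matrix Subgroup

variable {F : Type*} [Field F]

/-- explicit elements -/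
def mk2 (a b c d : F) (h : a * d - b * c = 1) : SpecialLinearGroup (Fin 2) F := ⟨!![a, b; c, d], by rw [det_fin_two_of]; exact h⟩

theorem val_pow {n : ℕ} (x : SpecialLinearGroup (Fin n) F) (k : ℕ) : (x ^ k).1 = x.1 ^ k := Matrix.SpecialLinearGroup.coe_pow x k

theorem val_mul {n : ℕ} (x y : SpecialLinearGroup (Fin n) F) : (x * y).1 = x.1 * y.1 := Matrix.SpecialLinearGroup.coe_mul x y

theorem val_one {n : ℕ} : (1 : SpecialLinearGroup (Fin n) F).1 = 1 := Matrix.SpecialLinearGroup.coe_one

theorem val_inv {n : ℕ} (x : SpecialLinearGroup (Fin n) F) : (x⁻¹).1 = adjugate x.1 := Matrix.SpecialLinearGroup.coe_inv x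

/-- the norm form is universal -/
theorem exists_form_eq [Finite F] {α : F} (hα : α ^ 2 ≠ 4) (c : F) : ∃ u v : F, u ^ 2 - α * u * v + v ^ 2 = c := by
  have := Fintype.ofFinite F
  by_cases h2 : (2 : F) = 0
  · obtain ⟨u, hu⟩ := FiniteField.isSquare_of_char_two (F := F) (CharP.ringChar_of_prime_eq_zero Nat.prime_two h2) c
    exact ⟨u, 0, by rw [hu]; ring⟩
  · have hodd : Fintype.card F % 2 = 1 := by
      rcases Nat.mod_two_eq_zero_or_one (Fintype.card F) with h | h
      · exfalso
        exact h2 (by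
          have h3 : ringChar F = 2 := (FiniteField.even_card_iff_char_two).2 h
          have h4 : ((ringChar F : ℕ) : F) = 0 := CharP.cast_eq_zero F (ringChar F)
          rw [h3] at h4
          exact_mod_cast h4)
      · exact h
    have hk : (1 - α ^ 2 / 4 : F) ≠ 0 := by
      intro h
      apply hα
      have h4 : (4 : F) ≠ 0 := by
        rw [show (4 : F) = 2 * 2 by norm_num]
        exact mul_ne_zero h2 h2
      field_simp at h
      linear_combination -h
    obtain ⟨a, b, hab⟩ := FiniteField.exists_root_sum_quadratic (R := F)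
      (f := Polynomial.X ^ 2) (g := Polynomial.C (1 - α ^ 2 / 4) * Polynomial.X ^ 2 + Polynomial.C (-c))
      (Polynomial.degree_X_pow 2) (by
        rw [Polynomial.degree_add_C (by rw [Polynomial.degree_C_mul_X_pow 2 hk]; norm_num),
          Polynomial.degree_C_mul_X_pow 2 hk]; rfl) hodd
    simp only [Polynomial.eval_pow, Polynomial.eval_X, Polynomial.eval_add, Polynomial.eval_mul,
      Polynomial.eval_C] at hab
    refine ⟨a + α / 2 * b, b, ?_⟩
    have h4 : (4 : F) = 2 * 2 := by norm_num
    rw [h4] at hab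
    field_simp at hab ⊢
    linear_combination hab

/-- the standard element of trace `τ` -/
def T (τ : F) : SpecialLinearGroup (Fin 2) F := ⟨!![0, -1; 1, τ], by rw [det_fin_two_of]; ring⟩

theorem trace_T (τ : F) : (T τ).1.trace = τ := by
  show (!![0, -1; 1, τ] : Matrix (Fin 2) (Fin 2) F).trace = τ
  rw [trace_fin_two_of]; ring

theorem trace_conjSL {n : ℕ} (P : GL (Fin n) F) (M : SpecialLinearGroup (Fin n) F) : (conjSL P M).1.trace = M.1.trace := by
  rw [conjSL_coe, trace_mul_comm, ← Matrix.mul_assoc, ← Units.val_mul, inv_mul_cancel, Units.val_one, Matrix.one_mul]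

/-- not a scalar matrix -/
def NS (M : SpecialLinearGroup (Fin 2) F) : Prop := ∀ c : F, M.1 ≠ c • (1 : Matrix (Fin 2) (Fin 2) F)

theorem ns_of_trace {M : SpecialLinearGroup (Fin 2) F} (h : M.1.trace ^ 2 ≠ 4) : NS M := by
  intro c hc
  apply h
  have h1 := M.2
  rw [hc, det_smul, det_one, Fintype.card_fin, mul_one] at h1
  rw [hc, trace_smul, trace_one, Fintype.card_fin, smul_eq_mul]
  push_cast
  linear_combination 4 * h1

theorem exists_conj_T {M : SpecialLinearGroup (Fin 2) F} (h : NS M) : ∃ P : GL (Fin 2) F, M = conjSL P (T M.1.trace) := by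
  have hd := M.2
  rw [det_fin_two] at hd
  have key : ∀ v0 v1 : F, v0 * (M.1 1 0 * v0 + M.1 1 1 * v1) - v1 * (M.1 0 0 * v0 + M.1 0 1 * v1) ≠ 0 →
      ∃ P : GL (Fin 2) F, M = conjSL P (T M.1.trace) := by
    intro v0 v1 hv
    let P : GL (Fin 2) F := GeneralLinearGroup.mkOfDetNeZero
      !![v0, M.1 0 0 * v0 + M.1 0 1 * v1; v1, M.1 1 0 * v0 + M.1 1 1 * v1] (by
        rw [det_fin_two_of]
        intro h
        apply hv
        linear_combination h)
    have hP : M.1 * P.1 = P.1 * (T M.1.trace).1 := by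
      change M.1 * !![v0, M.1 0 0 * v0 + M.1 0 1 * v1; v1, M.1 1 0 * v0 + M.1 1 1 * v1] =
        !![v0, M.1 0 0 * v0 + M.1 0 1 * v1; v1, M.1 1 0 * v0 + M.1 1 1 * v1] * !![0, -1; 1, M.1.trace]
      rw [trace_fin_two]
      ext i j
      fin_cases i <;> fin_cases j <;> simp [Matrix.mul_apply, Fin.sum_univ_two]
      · linear_combination (-v0) * hd
      · linear_combination (-v1) * hd
    refine ⟨P, Subtype.ext ?_⟩
    rw [conjSL_coe, ← hP, Matrix.mul_assoc, ← Units.val_mul, mul_inv_cancel, Units.val_one, Matrix.mul_one]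
  by_cases h10 : M.1 1 0 = 0
  · by_cases h01 : M.1 0 1 = 0
    · apply key 1 1
      rw [h10, h01]
      intro h0
      apply h (M.1 0 0)
      have h2 : M.1 1 1 = M.1 0 0 := by linear_combination h0
      ext i j
      fin_cases i <;> fin_cases j <;> simp [h10, h01, h2]
    · apply key 0 1
      intro h0
      apply h01
      linear_combination -h0
  · apply key 1 0
    intro h0
    apply h10
    linear_combination h0

/-- elements with the same trace, both non-scalar: the one is a product of `m` `p`-elements if the other is. -/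
theorem PE.of_trace {p m : ℕ} {M N : SpecialLinearGroup (Fin 2) F} (hM : NS M) (hN : NS N) (h : M.1.trace = N.1.trace)
    (hp : PE p m M) : PE p m N := by
  obtain ⟨P, hP⟩ := exists_conj_T hM
  obtain ⟨Q, hQ⟩ := exists_conj_T hN
  have h1 : T N.1.trace = conjSL P⁻¹ M := by
    rw [← h]
    conv_rhs => rw [hP]
    apply Subtype.ext
    rw [conjSL_coe, conjSL_coe, inv_inv]
    have e : (P⁻¹).1 * P.1 = 1 := by rw [← Units.val_mul, inv_mul_cancel, Units.val_one]
    calc (T M.1.trace).1 = 1 * (T M.1.trace).1 * 1 := by rw [Matrix.one_mul, Matrix.mul_one]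
      _ = ((P⁻¹).1 * P.1) * (T M.1.trace).1 * ((P⁻¹).1 * P.1) := by rw [e]
      _ = _ := by simp only [Matrix.mul_assoc]
  rw [hQ, h1]
  exact (hp.map _).map _

/-- **The trace lemma.** -/
theorem exists_trace [Finite F] {α : F} (hα : α ^ 2 ≠ 4) (β γ : F) :
    ∃ B : SpecialLinearGroup (Fin 2) F, B.1.trace = β ∧ (T α * B).1.trace = γ := by
  have hD : (4 - α ^ 2 : F) ≠ 0 := fun h => hα (by linear_combination -h)
  set u₀ : F := (2 * β + α * (γ - α * β)) / (4 - α ^ 2) with hu₀
  set v₀ : F := (2 * γ - α * β) / (4 - α ^ 2) with hv₀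
  have h1 : 2 * u₀ - α * v₀ = β := by rw [hu₀, hv₀]; field_simp; ring
  have h2 : -α * u₀ + 2 * v₀ = γ - α * β := by rw [hu₀, hv₀]; field_simp; ring
  obtain ⟨s, t, hst⟩ := exists_form_eq hα (-(u₀ ^ 2 - α * u₀ * v₀ + v₀ ^ 2 - β * u₀ + (α * β - γ) * v₀ + 1))
  have hP : (u₀ + s) ^ 2 - α * (u₀ + s) * (v₀ + t) + (v₀ + t) ^ 2 - β * (u₀ + s) + (α * β - γ) * (v₀ + t) + 1 = 0 := by
    linear_combination hst + s * h1 + t * h2
  set u := u₀ + s
  set v := v₀ + t
  refine ⟨⟨!![u, v; v + α * (β - u) - γ, β - u], ?_⟩, ?_, ?_⟩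
  · rw [det_fin_two_of]
    linear_combination -hP
  · show (!![u, v; v + α * (β - u) - γ, β - u] : Matrix (Fin 2) (Fin 2) F).trace = β
    rw [trace_fin_two_of]; ring
  · show ((!![0, -1; 1, α] : Matrix (Fin 2) (Fin 2) F) * !![u, v; v + α * (β - u) - γ, β - u]).trace = γ
    rw [mul_fin_two, trace_fin_two_of]
    ring

/-- a `p`-element which is not `±` unipotent -/
theorem exists_semisimple [Finite F] {p : ℕ} (hp : p.Prime) (hd : p ∣ Nat.card F ^ 2 - 1) :
    ∃ x : SpecialLinearGroup (Fin 2) F, IsPE p x ∧ x.1.trace ^ 2 ≠ 4 := by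
  have := Fintype.ofFinite F
  have hq : 1 < Nat.card F := Finite.one_lt_card
  by_cases hp2 : p = 2
  · subst hp2
    have h2 : (2 : F) ≠ 0 := by
      intro h
      have h3 : ringChar F = 2 := CharP.ringChar_of_prime_eq_zero Nat.prime_two h
      have h4 := (FiniteField.even_card_iff_char_two (F := F)).1 h3
      rw [Nat.card_eq_fintype_card] at hd
      have h5 : (Fintype.card F ^ 2) % 2 = 0 := by rw [Nat.pow_mod, h4]
      have h6 : 1 ≤ Fintype.card F ^ 2 := Nat.one_le_pow _ _ Fintype.card_pos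
      omega
    refine ⟨T 0, ⟨2, ?_⟩, ?_⟩
    · apply Subtype.ext
      show ((T (0 : F)).1) ^ 2 ^ 2 = 1
      show (!![0, -1; 1, 0] : Matrix (Fin 2) (Fin 2) F) ^ 4 = 1
      have h1 : (!![0, -1; 1, 0] : Matrix (Fin 2) (Fin 2) F) ^ 2 = !![-1, 0; 0, -1] := by
        rw [pow_two, mul_fin_two]
        ext i j
        fin_cases i <;> fin_cases j <;> simp
      rw [show (4 : ℕ) = 2 * 2 by rfl, pow_mul, h1, pow_two, mul_fin_two]
      ext i j
      fin_cases i <;> fin_cases j <;> simp
    · rw [trace_T]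
      intro h
      apply h2
      have h4 : (2 : F) * 2 = 0 := by linear_combination -h
      exact mul_self_eq_zero.1 h4
  · -- Cauchy
    have : Fact p.Prime := ⟨hp⟩
    have hcard := S0242.result (F := F) rfl 2 (by norm_num)
    rw [Fin.prod_univ_two] at hcard
    simp only [Fin.val_zero, Fin.val_one, pow_zero, pow_one] at hcard
    rw [← Nat.card_eq_fintype_card] at hcard
    set q := Nat.card F with hqdef
    have hpq : ¬ p ∣ q := by
      intro h
      have h1 : p ∣ q ^ 2 := dvd_pow h (by norm_num)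
      have h2 : 1 ≤ q ^ 2 := Nat.one_le_pow _ _ (by omega)
      have h3 : p ∣ 1 := by
        have := (Nat.dvd_sub h1 hd)
        rwa [Nat.sub_sub_self h2] at this
      exact hp.one_lt.ne' (Nat.dvd_one.1 h3)
    have hcard2 : Nat.card (SpecialLinearGroup (Fin 2) F) = (q ^ 2 - 1) * q := by
      have h1 : q ^ 2 - q = (q - 1) * q := by rw [Nat.sub_mul, one_mul, pow_two]
      rw [h1] at hcard
      have h2 : (q - 1) * Nat.card (SpecialLinearGroup (Fin 2) F) = (q - 1) * ((q ^ 2 - 1) * q) := by
        rw [hcard]; ring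
      exact Nat.eq_of_mul_eq_mul_left (by omega) h2
    obtain ⟨x, hx⟩ := exists_prime_orderOf_dvd_card' (G := SpecialLinearGroup (Fin 2) F) p
      (by rw [hcard2]; exact Dvd.dvd.mul_right hd _)
    refine ⟨x, IsPE.of_prime hx, fun htr => ?_⟩
    -- `(x² - 1)` is nilpotent: `x ^ (2 r) = 1`
    obtain ⟨r, hr⟩ := CharP.exists F
    have hrp : r.Prime := (CharP.char_is_prime_or_zero F r).resolve_right (CharP.char_ne_zero_of_finite F r)
    have : Fact r.Prime := ⟨hrp⟩
    have hch : x.1 ^ 2 - x.1.trace • x.1 + 1 = 0 := by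
      have h1 := Matrix.aeval_self_charpoly x.1
      rw [Matrix.charpoly_fin_two, x.2] at h1
      simpa [Algebra.smul_def] using h1
    have hsq : (x.1 ^ 2 - 1) ^ 2 = 0 := by
      have h3 : x.1 ^ 2 + 1 = x.1.trace • x.1 := by
        rw [← sub_eq_zero, ← hch]; abel
      have h4 : (x.1 ^ 2 + 1) ^ 2 = (4 : F) • x.1 ^ 2 := by
        rw [h3, smul_pow, htr]
      have h5 : (x.1 ^ 2 - 1) ^ 2 = (x.1 ^ 2 + 1) ^ 2 - (4 : F) • x.1 ^ 2 := by
        have e : (4 : F) • x.1 ^ 2 = 4 * x.1 ^ 2 := by
          rw [show (4 : F) = ((4 : ℕ) : F) by norm_num, Nat.cast_smul_eq_nsmul, nsmul_eq_mul]; norm_num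
        rw [e]
        noncomm_ring
      rw [h5, h4, sub_self]
    have hpow : (x.1 ^ 2) ^ r = 1 := by
      have h6 : (x.1 ^ 2 - 1) ^ r = 0 := by
        obtain ⟨k, hk⟩ := Nat.exists_eq_add_of_le hrp.two_le
        rw [hk, pow_add, hsq, zero_mul]
      have h7 : (x.1 ^ 2 - 1) ^ r = (x.1 ^ 2) ^ r - 1 ^ r := by
        have : CharP (Matrix (Fin 2) (Fin 2) F) r := inferInstance
        exact sub_pow_char_of_commute _ (Commute.one_right (x.1 ^ 2))
      rw [h7, one_pow] at h6
      exact sub_eq_zero.1 h6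
    have hx2 : x ^ (2 * r) = 1 := by
      apply Subtype.ext
      rw [val_pow, pow_mul]
      exact hpow
    have h8 : p ∣ 2 * r := by rw [← hx]; exact orderOf_dvd_of_pow_eq_one hx2
    rcases (Nat.Prime.dvd_mul hp).1 h8 with h9 | h9
    · exact hp2 ((Nat.prime_dvd_prime_iff_eq hp Nat.prime_two).1 h9)
    · have h10 : p = r := (Nat.prime_dvd_prime_iff_eq hp hrp).1 h9
      apply hpq
      rw [h10, hqdef, Nat.card_eq_fintype_card]
      obtain ⟨k, -, hk⟩ := FiniteField.card F r
      rw [hk]
      exact dvd_pow_self r k.ne_zero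

/-- T2, semisimple targets. -/
theorem pe_two_of_trace [Finite F] {p : ℕ} (hp : p.Prime) (hd : p ∣ Nat.card F ^ 2 - 1) (M : SpecialLinearGroup (Fin 2) F)
    (hM : M.1.trace ^ 2 ≠ 4) : PE p 2 M := by
  obtain ⟨x, hx, hxt⟩ := exists_semisimple (F := F) hp hd
  obtain ⟨B, hB1, hB2⟩ := exists_trace hxt x.1.trace M.1.trace
  have h1 : PE p 1 (T x.1.trace) := PE.of_trace (ns_of_trace hxt) (ns_of_trace (by rw [trace_T]; exact hxt))
    (by rw [trace_T]) hx.pe
  have h2 : PE p 1 B := PE.of_trace (ns_of_trace hxt) (ns_of_trace (by rw [hB1]; exact hxt)) hB1.symm hx.pe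
  exact PE.of_trace (ns_of_trace (by rw [hB2]; exact hM)) (ns_of_trace hM) hB2 (h1.mul h2)

theorem pe_three_char {p : ℕ} [CharP F p] (M : SpecialLinearGroup (Fin 2) F) (hM : NS M) : PE p 3 M := by
  have hu : ∀ a : F, IsPE p (mk2 1 a 0 1 (by ring)) := by
    intro a
    have h1 : ∀ k : ℕ, (mk2 1 a 0 1 (by ring) ^ k).1 = !![1, k * a; 0, 1] := by
      intro k
      induction k with
      | zero =>
        rw [pow_zero, val_one]
        ext i j
        fin_cases i <;> fin_cases j <;> simp
      | succ k ih =>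
        rw [pow_succ, val_mul, ih]
        show !![1, k * a; 0, 1] * !![1, a; 0, 1] = _
        rw [mul_fin_two]
        ext i j
        fin_cases i <;> fin_cases j <;> simp
        ring
    refine ⟨1, Subtype.ext ?_⟩
    rw [pow_one, h1 p, CharP.cast_eq_zero, zero_mul, val_one]
    ext i j
    fin_cases i <;> fin_cases j <;> simp
  have hl : IsPE p (mk2 (1 : F) 0 1 1 (by ring)) := by
    have h1 : ∀ k : ℕ, (mk2 (1 : F) 0 1 1 (by ring) ^ k).1 = !![1, 0; (k : F), 1] := by
      intro k
      induction k with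
      | zero =>
        rw [pow_zero, val_one]
        ext i j
        fin_cases i <;> fin_cases j <;> simp
      | succ k ih =>
        rw [pow_succ, val_mul, ih]
        show !![1, 0; (k : F), 1] * !![1, 0; 1, 1] = _
        rw [mul_fin_two]
        ext i j
        fin_cases i <;> fin_cases j <;> simp
    refine ⟨1, Subtype.ext ?_⟩
    rw [pow_one, h1 p, CharP.cast_eq_zero, val_one]
    ext i j
    fin_cases i <;> fin_cases j <;> simp
  obtain ⟨P, hP⟩ := exists_conj_T hM
  rw [hP]
  refine PE.map ?_ _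
  have h2 : T M.1.trace = mk2 1 (-1) 0 1 (by ring) * (mk2 1 0 1 1 (by ring) *
      mk2 1 (M.1.trace - 1) 0 1 (by ring)) := by
    apply Subtype.ext
    show (!![0, -1; 1, M.1.trace] : Matrix (Fin 2) (Fin 2) F) = !![1, -1; 0, 1] * (!![1, 0; 1, 1] * !![1, M.1.trace - 1; 0, 1])
    rw [mul_fin_two, mul_fin_two]
    ext i j
    fin_cases i <;> fin_cases j <;> simp
    ring
  rw [h2]
  exact (hu (-1)).pe.mul (hl.pe.mul (hu _).pe)

/-- T2, all non-scalar targets. -/
theorem pe_three_of_nonscalar [Finite F] {p : ℕ} (hp : p.Prime)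
    (hd : CharP F p ∨ (p ∣ Nat.card F ^ 2 - 1 ∧ 4 ≤ Nat.card F)) (M : SpecialLinearGroup (Fin 2) F)
    (hM : ∀ c : F, M.1 ≠ c • (1 : Matrix (Fin 2) (Fin 2) F)) : PE p 3 M := by
  classical
  rcases hd with hd | ⟨hd, h4⟩
  · exact pe_three_char M hM
  · by_cases ht : M.1.trace ^ 2 = 4
    · obtain ⟨x, hx, hxt⟩ := exists_semisimple (F := F) hp hd
      set α := x.1.trace with hα
      -- a trace different from `± 2`, `± α`
      have := Fintype.ofFinite F
      obtain ⟨γ, hγ1, hγ2⟩ : ∃ γ : F, γ ^ 2 ≠ 4 ∧ γ ^ 2 ≠ α ^ 2 := by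
        by_contra hcon
        push Not at hcon
        have hsub : (Finset.univ : Finset F) ⊆ {2, -2, α, -α} := by
          intro γ _
          by_cases h1 : γ ^ 2 = 4
          · have h2 : (γ - 2) * (γ + 2) = 0 := by linear_combination h1
            rcases mul_eq_zero.1 h2 with h3 | h3
            · simp [sub_eq_zero.1 h3]
            · simp [eq_neg_of_add_eq_zero_left h3]
          · have h1' := hcon γ h1
            have h2 : (γ - α) * (γ + α) = 0 := by linear_combination h1'
            rcases mul_eq_zero.1 h2 with h3 | h3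
            · simp [sub_eq_zero.1 h3]
            · simp [eq_neg_of_add_eq_zero_left h3]
        have hc := Finset.card_le_card hsub
        rw [Finset.card_univ, ← Nat.card_eq_fintype_card] at hc
        have hc4 : ({2, -2, α, -α} : Finset F).card ≤ 4 := Finset.card_le_four
        have hq4 : Nat.card F = 4 := by omega
        -- then the characteristic is two
        have h2 : (2 : F) = 0 := by
          have h5 : ringChar F = 2 := (FiniteField.even_card_iff_char_two).2 (by
            rw [← Nat.card_eq_fintype_card, hq4])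
          have h6 : ((ringChar F : ℕ) : F) = 0 := CharP.cast_eq_zero F (ringChar F)
          rw [h5] at h6
          exact_mod_cast h6
        have h7 : (-2 : F) = 2 := by linear_combination -2 * h2
        have h8 : ({2, -2, α, -α} : Finset F).card ≤ 3 := by
          rw [h7]
          simp only [Finset.mem_insert, true_or, Finset.insert_eq_of_mem]
          exact Finset.card_le_three
        omega
      obtain ⟨B, hB1, hB2⟩ := exists_trace hxt γ M.1.trace
      have h1 : PE p 1 (T α) := PE.of_trace (ns_of_trace hxt) (ns_of_trace (by rw [trace_T]; exact hxt))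
        (by rw [trace_T]) hx.pe
      have h2 : PE p 2 B := pe_two_of_trace hp hd B (by rw [hB1]; exact hγ1)
      refine PE.of_trace ?_ hM hB2 (h1.mul h2)
      -- the product is not scalar
      intro c hc
      apply hγ2
      have h3 : (T α * B).1 = c • (1 : Matrix (Fin 2) (Fin 2) F) := hc
      have hc2 : c ^ 2 = 1 := by
        have h5 := (T α * B).2
        rw [h3, det_smul, det_one, Fintype.card_fin, mul_one] at h5
        exact h5
      have h6 : B = (T α)⁻¹ * (T α * B) := by group
      have h7 : B.1 = c • ((T α)⁻¹).1 := by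
        have := congrArg Subtype.val h6
        rw [this]
        show ((T α)⁻¹).1 * (T α * B).1 = _
        rw [h3, Matrix.mul_smul, Matrix.mul_one]
      have h8 : ((T α)⁻¹).1.trace = α := by
        rw [val_inv]
        show (adjugate (!![0, -1; 1, α] : Matrix (Fin 2) (Fin 2) F)).trace = α
        rw [adjugate_fin_two_of, trace_fin_two_of]; ring
      have h9 : γ = c * α := by
        rw [← hB1, h7, trace_smul, h8, smul_eq_mul]
      rw [h9]
      linear_combination α ^ 2 * hc2
    · exact (pe_two_of_trace hp hd M ht).mono (by norm_num)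

end Cfsg.Agent.H514.DP
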