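import Mathlib
import Cfsg.Agent.H514.DP.TTwo

/-!
# Elements of prime order in `SL_e(q)` with small centralizers (S2454)

* `exists_ext`: extensions of a finite field;
* `exists_order_elt`: if `e ≥ 2` is the order of `q` modulo `p`, an element `z` of order `p` of the extension of degree `e`, of norm
  one, generating the extension;
* `blk b z` : the element `diag(mult. by z, N(z)⁻¹)` of `SL_(k+1)(F)` and the order of its centralizer.
-/

set_option autoImplicit false
set_option linter.unusedSectionVars false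

namespace Cfsg.Agent.H514.DP

open Matrix Subgroup

variable {F : Type*} [Field F]

theorem exists_ext [Finite F] {n : ℕ} (hn : n ≠ 0) :
    ∃ (K : Type) (_ : Field K) (_ : Algebra F K), Nonempty (Module.Basis (Fin n) F K) := by
  obtain ⟨r, hr⟩ := CharP.exists F
  have : Fact r.Prime := ⟨(CharP.char_is_prime_or_zero F r).resolve_right (CharP.char_ne_zero_of_finite F r)⟩
  have : NeZero n := ⟨hn⟩
  refine ⟨FiniteField.Extension F r n, inferInstance, inferInstance, ?_⟩
  have h1 := FiniteField.finrank_extension F r n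
  exact ⟨(Module.finBasisOfFinrankEq F (FiniteField.Extension F r n) h1)⟩

section

variable {K : Type*} [Field K] [Algebra F K] {n : ℕ}

theorem adjoin_eq_top_of_prime [Finite F] (b : Module.Basis (Fin n) F K) {z : K} {p : ℕ} (hz0 : z ≠ 0)
    (hz : p ∣ orderOf z) (hmin : ∀ i, 0 < i → i < n → ¬ p ∣ Nat.card F ^ i - 1) : Algebra.adjoin F {z} = ⊤ := by
  have := finite_ext b
  have : Module.Finite F K := Module.Finite.of_basis b
  have hfd : Module.finrank F K = n := by rw [Module.finrank_eq_card_basis b, Fintype.card_fin]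
  set E := IntermediateField.adjoin F {z} with hE
  have hzE : z ∈ E := IntermediateField.mem_adjoin_simple_self F z
  have h1 : Nat.card E = Nat.card F ^ Module.finrank F E := Module.natCard_eq_pow_finrank
  have hpos : 0 < Module.finrank F E := Module.finrank_pos
  have h2 : z ^ (Nat.card F ^ Module.finrank F E - 1) = 1 := by
    have := Fintype.ofFinite E
    have h3 : (⟨z, hzE⟩ : E) ^ (Fintype.card E - 1) = 1 :=
      FiniteField.pow_card_sub_one_eq_one _ (fun h => hz0 (congrArg Subtype.val h))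
    have h4 := congrArg Subtype.val h3
    rw [← h1, Nat.card_eq_fintype_card]
    simpa using h4
  have h3 : p ∣ Nat.card F ^ Module.finrank F E - 1 := hz.trans (orderOf_dvd_of_pow_eq_one h2)
  have h4 : n ≤ Module.finrank F E := by
    by_contra h
    exact hmin _ hpos (by omega) h3
  have h5 : E = ⊤ := by
    rw [← IntermediateField.toSubalgebra_inj]
    apply Subalgebra.toSubmodule_injective
    refine Submodule.eq_top_of_finrank_eq ?_
    refine le_antisymm (Submodule.finrank_le _) ?_
    rw [hfd]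
    exact h4
  have h6 : Algebra.adjoin F {z} = E.toSubalgebra :=
    (IntermediateField.adjoin_simple_toSubalgebra_of_isAlgebraic (Algebra.IsAlgebraic.isAlgebraic z)).symm
  rw [h6, h5, IntermediateField.top_toSubalgebra]

theorem exists_order_elt [Finite F] (b : Module.Basis (Fin n) F K) (hn : 2 ≤ n) {p : ℕ} (hp : p.Prime)
    (hd : p ∣ Nat.card F ^ n - 1) (hmin : ∀ i, 0 < i → i < n → ¬ p ∣ Nat.card F ^ i - 1) :
    ∃ z : K, Algebra.norm F z = 1 ∧ orderOf z = p ∧ Algebra.adjoin F {z} = ⊤ := by
  have := finite_ext b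
  have hq : 1 < Nat.card F := Finite.one_lt_card
  obtain ⟨g, hg⟩ := IsCyclic.exists_generator (α := Kˣ)
  have hord : orderOf g = Nat.card F ^ n - 1 := by
    rw [orderOf_eq_card_of_forall_mem_zpowers hg, Nat.card_units, card_ext b]
  have hpos : 0 < Nat.card F ^ n - 1 := by
    have : Nat.card F ^ 1 ≤ Nat.card F ^ n := Nat.pow_le_pow_right (by omega) (by omega)
    rw [pow_one] at this
    omega
  have h1 : orderOf (g ^ ((Nat.card F ^ n - 1) / p)) = p := by
    rw [orderOf_pow_of_dvd (Nat.div_pos (Nat.le_of_dvd hpos hd) hp.pos).ne' (by rw [hord]; exact Nat.div_dvd_of_dvd hd), hord]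
    exact Nat.div_div_self hd hpos.ne'
  set z : K := ((g ^ ((Nat.card F ^ n - 1) / p) : Kˣ) : K) with hz
  have h2 : orderOf z = p := by rw [hz, orderOf_units, h1]
  refine ⟨z, ?_, h2, adjoin_eq_top_of_prime b (Units.ne_zero _) (by rw [h2]) hmin⟩
  have h3 := FiniteField.algebraMap_norm_eq_pow (K := F) (x := z)
  rw [card_ext b] at h3
  have hdvd : Nat.card F - 1 ∣ Nat.card F ^ n - 1 := by
    simpa using Nat.sub_dvd_pow_sub_pow (Nat.card F) 1 n
  have h4 : p ∣ (Nat.card F ^ n - 1) / (Nat.card F - 1) := by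
    obtain ⟨k, hk⟩ := hdvd
    rw [hk, Nat.mul_div_cancel_left _ (by omega)]
    rw [hk] at hd
    rcases (Nat.Prime.dvd_mul hp).1 hd with h5 | h5
    · exact absurd (by rw [pow_one]; exact h5) (hmin 1 (by omega) (by omega))
    · exact h5
  have h5 : z ^ ((Nat.card F ^ n - 1) / (Nat.card F - 1)) = 1 := by
    obtain ⟨k, hk⟩ := h4
    rw [hk, pow_mul, ← h2, pow_orderOf_eq_one, one_pow]
  rw [h5] at h3
  exact (algebraMap F K).injective (by rw [h3, map_one])

/-- The block element `diag(z, N(z)⁻¹)` of `SL_(n+1)(F)`. -/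
noncomputable def blkM (b : Module.Basis (Fin n) F K) (z : K) : Matrix (Fin n ⊕ Unit) (Fin n ⊕ Unit) F :=
  fromBlocks (Algebra.leftMulMatrix b z) 0 0 (Matrix.diagonal fun _ => (Algebra.norm F z)⁻¹)

theorem det_blkM (b : Module.Basis (Fin n) F K) {z : K} (hz : z ≠ 0) [Finite F] : (blkM b z).det = 1 := by
  have : Module.Finite F K := Module.Finite.of_basis b
  unfold blkM
  rw [det_fromBlocks_zero₂₁, det_diagonal, ← Algebra.norm_eq_matrix_det]
  simp only [Finset.univ_unique, Finset.prod_singleton]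
  exact mul_inv_cancel₀ (by rw [Algebra.norm_ne_zero_iff]; exact hz)

theorem blkM_mul (b : Module.Basis (Fin n) F K) (z w : K) : blkM b (z * w) = blkM b z * blkM b w := by
  unfold blkM
  rw [fromBlocks_multiply, map_mul, diagonal_mul_diagonal]
  simp only [map_mul, mul_inv]
  simp

theorem blkM_one (b : Module.Basis (Fin n) F K) : blkM b 1 = 1 := by
  unfold blkM
  rw [map_one, map_one, inv_one]
  show fromBlocks 1 0 0 (diagonal fun _ => 1) = 1
  rw [diagonal_one, fromBlocks_one]

theorem blkM_pow (b : Module.Basis (Fin n) F K) (z : K) (k : ℕ) : blkM b (z ^ k) = blkM b z ^ k := by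
  induction k with
  | zero => rw [pow_zero, pow_zero, blkM_one]
  | succ k ih => rw [pow_succ, pow_succ, blkM_mul, ih]

/-- the centralizer of the block element -/
theorem exists_of_commute_blk [Finite F] (b : Module.Basis (Fin n) F K) (hn : 2 ≤ n) {z : K} (hz0 : z ≠ 0)
    (hz : Algebra.adjoin F {z} = ⊤) {M : Matrix (Fin n ⊕ Unit) (Fin n ⊕ Unit) F} (hdet : M.det = 1)
    (hM : M * blkM b z = blkM b z * M) : ∃ w : K, w ≠ 0 ∧ M = blkM b w := by
  have : Module.Finite F K := Module.Finite.of_basis b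
  have hfd : Module.finrank F K = n := by rw [Module.finrank_eq_card_basis b, Fintype.card_fin]
  set ν : F := (Algebra.norm F z)⁻¹ with hν
  set L := Algebra.leftMulMatrix b z with hL
  set A := M.toBlocks₁₁ with hA
  set B := M.toBlocks₁₂ with hB
  set C := M.toBlocks₂₁ with hC
  set D := M.toBlocks₂₂ with hD
  have hMb : M = fromBlocks A B C D := (fromBlocks_toBlocks M).symm
  have hdiag : (diagonal fun _ : Unit => ν) = ν • (1 : Matrix Unit Unit F) := by
    ext i j; simp
  have hM2 := hM
  rw [hMb] at hM2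
  unfold blkM at hM2
  rw [← hL, ← hν, hdiag, fromBlocks_multiply, fromBlocks_multiply, fromBlocks_inj] at hM2
  obtain ⟨h11, h12, h21, -⟩ := hM2
  simp only [Matrix.mul_zero, Matrix.zero_mul, add_zero, zero_add, Matrix.mul_smul, Matrix.smul_mul, Matrix.mul_one,
    Matrix.one_mul] at h11 h12 h21
  -- `z - ν` is invertible
  have hzν : z - algebraMap F K ν ≠ 0 := by
    intro h
    have h1 : z = algebraMap F K ν := sub_eq_zero.1 h
    rw [h1] at hz
    have h2 : (⊥ : Subalgebra F K) = ⊤ := by
      rw [← hz, eq_comm, Algebra.adjoin_singleton_algebraMap]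
    have h3 := Subalgebra.bot_eq_top_iff_finrank_eq_one.1 h2
    omega
  have hinv : IsUnit (L - ν • (1 : Matrix (Fin n) (Fin n) F)) := by
    have h1 : L - ν • (1 : Matrix (Fin n) (Fin n) F) = Algebra.leftMulMatrix b (z - algebraMap F K ν) := by
      rw [map_sub, AlgHom.commutes, Algebra.algebraMap_eq_smul_one]
    rw [h1]
    exact (Ne.isUnit hzν).map (Algebra.leftMulMatrix b)
  obtain ⟨U, hU⟩ := hinv
  have hB0 : B = 0 := by
    have h1 : (L - ν • (1 : Matrix (Fin n) (Fin n) F)) * B = 0 := by
      rw [Matrix.sub_mul, Matrix.smul_mul, Matrix.one_mul, ← h12, sub_self]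
    rw [← hU] at h1
    calc B = (U⁻¹ : (Matrix (Fin n) (Fin n) F)ˣ).1 * (U.1 * B) := by
          rw [← Matrix.mul_assoc, ← Units.val_mul, inv_mul_cancel, Units.val_one, Matrix.one_mul]
      _ = 0 := by rw [h1, Matrix.mul_zero]
  have hC0 : C = 0 := by
    have h1 : C * (L - ν • (1 : Matrix (Fin n) (Fin n) F)) = 0 := by
      rw [Matrix.mul_sub, Matrix.mul_smul, Matrix.mul_one, h21, sub_self]
    rw [← hU] at h1
    calc C = (C * U.1) * (U⁻¹ : (Matrix (Fin n) (Fin n) F)ˣ).1 := by
          rw [Matrix.mul_assoc, ← Units.val_mul, mul_inv_cancel, Units.val_one, Matrix.mul_one]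
      _ = 0 := by rw [h1, Matrix.zero_mul]
  obtain ⟨w, hw⟩ := exists_of_commute b hz h11
  have hdet2 : A.det * D.det = 1 := by
    rw [← hdet, hMb, hB0, det_fromBlocks_zero₁₂]
  have hAdet : A.det = Algebra.norm F w := by rw [hw, Algebra.norm_eq_matrix_det b]
  have hw0 : w ≠ 0 := by
    rintro rfl
    rw [hAdet, Algebra.norm_zero, zero_mul] at hdet2
    exact zero_ne_one hdet2
  refine ⟨w, hw0, ?_⟩
  rw [hMb, hB0, hC0, hw]
  unfold blkM
  congr 1
  ext i j
  have hDd : D.det = D () () := by rw [det_unique]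
  have h3 : D () () = (Algebra.norm F w)⁻¹ := by
    rw [← hDd, ← hAdet]
    exact eq_inv_of_mul_eq_one_right hdet2
  rw [diagonal_apply, if_pos (Subsingleton.elim _ _), ← h3]

/-- the index equivalence -/
def eqv (n : ℕ) : Fin n ⊕ Unit ≃ Fin (n + 1) :=
  (Equiv.sumCongr (Equiv.refl _) finOneEquiv.symm).trans finSumFinEquiv

/-- The block element in `SL_(n+1)(F)`. -/
noncomputable def blk [Finite F] (b : Module.Basis (Fin n) F K) {z : K} (hz : z ≠ 0) :
    SpecialLinearGroup (Fin (n + 1)) F :=
  ⟨reindex (eqv n) (eqv n) (blkM b z), by rw [reindex_apply, det_submatrix_equiv_self, det_blkM b hz]⟩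

theorem blk_pow [Finite F] (b : Module.Basis (Fin n) F K) {z : K} (hz : z ≠ 0) (k : ℕ) :
    blk b hz ^ k = blk b (pow_ne_zero k hz) := by
  apply Subtype.ext
  rw [val_pow]
  show (reindexAlgEquiv F F (eqv n) (blkM b z)) ^ k = reindexAlgEquiv F F (eqv n) (blkM b (z ^ k))
  rw [← map_pow, blkM_pow]

theorem blk_eq_one [Finite F] (b : Module.Basis (Fin n) F K) {z : K} (hz : z ≠ 0) (h : z = 1) : blk b hz = 1 := by
  subst h
  apply Subtype.ext
  rw [val_one]
  show reindexAlgEquiv F F (eqv n) (blkM b 1) = 1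
  rw [blkM_one, map_one]

theorem isPE_blk [Finite F] (b : Module.Basis (Fin n) F K) {z : K} (hz : z ≠ 0) {p k : ℕ} (h : orderOf z = p ^ k) :
    IsPE p (blk b hz) := by
  refine ⟨k, ?_⟩
  rw [blk_pow]
  exact blk_eq_one b _ (by rw [← h, pow_orderOf_eq_one])

theorem card_centralizer_blk_le [Finite F] (b : Module.Basis (Fin n) F K) (hn : 2 ≤ n) {z : K} (hz0 : z ≠ 0)
    (hz : Algebra.adjoin F {z} = ⊤) :
    Nat.card (centralizer ({blk b hz0} : Set (SpecialLinearGroup (Fin (n + 1)) F))) ≤ Nat.card F ^ n - 1 := by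
  have := finite_ext b
  have key : ∀ M : centralizer ({blk b hz0} : Set (SpecialLinearGroup (Fin (n + 1)) F)),
      ∃ w : Kˣ, (M : SpecialLinearGroup (Fin (n + 1)) F).1 = reindex (eqv n) (eqv n) (blkM b w) := by
    intro M
    have h0 := mem_centralizer_singleton_iff.1 M.2
    have h1 := congrArg Subtype.val h0
    set M' := reindexAlgEquiv F F (eqv n).symm (M : SpecialLinearGroup (Fin (n + 1)) F).1 with hM'
    have hMM' : (M : SpecialLinearGroup (Fin (n + 1)) F).1 = reindexAlgEquiv F F (eqv n) M' := by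
      rw [hM']
      ext i j
      simp
    have h2 : M' * blkM b z = blkM b z * M' := by
      apply (reindexAlgEquiv F F (eqv n)).injective
      rw [map_mul, map_mul, ← hMM']
      exact h1
    have h3 : M'.det = 1 := by
      have h4 := (M : SpecialLinearGroup (Fin (n + 1)) F).2
      rw [hMM', coe_reindexAlgEquiv, reindex_apply, det_submatrix_equiv_self] at h4
      exact h4
    obtain ⟨w, hw0, hw⟩ := exists_of_commute_blk b hn hz0 hz h3 h2
    exact ⟨Units.mk0 w hw0, by rw [hMM', hw]; rfl⟩
  choose f hf using key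
  have h1 : Nat.card (centralizer ({blk b hz0} : Set (SpecialLinearGroup (Fin (n + 1)) F))) ≤ Nat.card Kˣ := by
    refine Nat.card_le_card_of_injective f ?_
    intro M M' h
    apply Subtype.ext
    apply Subtype.ext
    rw [hf, hf, h]
  rw [Nat.card_units, card_ext b] at h1
  exact h1

end

end Cfsg.Agent.H514.DP
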