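import Mathlib
import Cfsg.Agent.H514.DP.OrdElt
import Cfsg.Agent.S2332
import Cfsg.Agent.S0248
import Cfsg.Agent.S0242
import Cfsg.Agent.H990.TC.PDLin

/-!
# RESULT W: companion matrices of `SL_n(q)` are products of ten `p`-elements (S2454)
-/

set_option autoImplicit false
set_option linter.unusedSectionVars false

namespace Cfsg.Agent.H514.DP

open Matrix Subgroup

variable {F : Type*} [Field F]

theorem exists_ne_one {G : Type*} [Group G] {k : ℕ} (ρ : Representation ℂ G (Fin k → ℂ)) (hρ : ρ.IsIrreducible) (hk : 2 ≤ k) :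
    ∃ g, ρ g ≠ 1 := by
  by_contra hcon
  push Not at hcon
  have h0 : (0 : ℕ) < k := by omega
  let v : Fin k → ℂ := Pi.single ⟨0, h0⟩ 1
  have hv : v ≠ 0 := by
    intro h
    have := congrFun h ⟨0, h0⟩
    simp [v] at this
  let W : Subrepresentation ρ :=
    { toSubmodule := Submodule.span ℂ {v}
      apply_mem_toSubmodule := by
        intro g w hw
        rw [hcon g]
        exact hw }
  have hW : W = ⊥ ∨ W = ⊤ := eq_bot_or_eq_top W
  rcases hW with hW | hW
  · have h1 : v ∈ W.toSubmodule := Submodule.mem_span_singleton_self v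
    rw [hW] at h1
    exact hv ((Submodule.mem_bot ℂ).mp h1)
  · have h1 : W.toSubmodule = ⊤ := by rw [hW]; rfl
    have h2 : Module.finrank ℂ (Submodule.span ℂ {v}) = k := by
      change Module.finrank ℂ W.toSubmodule = k
      rw [h1, finrank_top, Module.finrank_fin_fun]
    rw [finrank_span_singleton hv] at h2
    omega

/-- minimal degree, simple general bound. -/
theorem minDeg_SL [Finite F] {n : ℕ} (hn : 3 ≤ n) : MinDeg (SpecialLinearGroup (Fin n) F) (Nat.card F ^ (n - 1) - 1) := by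
  have := Fintype.ofFinite F
  intro k ρ hρ hk
  rw [Nat.card_eq_fintype_card]
  exact H990.TC.deg_SL hn ρ (exists_ne_one ρ hρ hk)

theorem perfect_SL {n : ℕ} (hn : 3 ≤ n) : commutator (SpecialLinearGroup (Fin n) F) = ⊤ := S0248.result n hn

theorem geom_succ {q e : ℕ} (hq : 1 < q) (he : 1 ≤ e) : (q ^ e - 1) / (q - 1) = (q ^ e - q) / (q - 1) + 1 := by
  have h1 : q ≤ q ^ e := by
    calc q = q ^ 1 := (pow_one q).symm
      _ ≤ q ^ e := Nat.pow_le_pow_right (by omega) he
  have h2 : q ^ e - 1 = (q ^ e - q) + (q - 1) := by omega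
  rw [h2, Nat.add_div_right _ (by omega)]

/-- minimal degree, sharp bound. -/
theorem minDeg_SL' [Finite F] {n : ℕ} (hn : 3 ≤ n) (hex : (n, Nat.card F) ≠ (3, 2) ∧ (n, Nat.card F) ≠ (3, 4) ∧
    (n, Nat.card F) ≠ (4, 2) ∧ (n, Nat.card F) ≠ (4, 3)) :
    MinDeg (SpecialLinearGroup (Fin n) F) ((Nat.card F ^ n - Nat.card F) / (Nat.card F - 1)) := by
  classical
  have := Fintype.ofFinite F
  rw [Nat.card_eq_fintype_card] at hex ⊢
  exact (S2332.result n hn hex).1

theorem isPE_sing {K : Type*} [Field K] [Algebra F K] {n : ℕ} (b : Module.Basis (Fin n) F K) {z : K}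
    (h : Algebra.norm F z = 1) {p k : ℕ} (hz : orderOf z = p ^ k) : IsPE p (sing b z h) := by
  refine ⟨k, Subtype.ext ?_⟩
  rw [val_pow, val_one]
  show Algebra.leftMulMatrix b z ^ p ^ k = 1
  rw [← map_pow, ← hz, pow_orderOf_eq_one, map_one]

theorem lt_of_small {a b : ℕ} {m n : ℕ} (h : a ≤ b) (hb : b ^ m < n) : a ^ m < n :=
  lt_of_le_of_lt (Nat.pow_le_pow_left h m) hb

/-- K for `SL_e(q)`, `e` the order of `q` modulo `p`. -/
theorem pw_SL_of_bound [Finite F] {p e m d : ℕ} (hp : p.Prime) (he : 3 ≤ e) (hd : p ∣ Nat.card F ^ e - 1)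
    (hmin : ∀ i, 0 < i → i < e → ¬ p ∣ Nat.card F ^ i - 1) (hm : 3 ≤ m) (hdeg : MinDeg (SpecialLinearGroup (Fin e) F) d)
    (hb : ((Nat.card F ^ e - 1) / (Nat.card F - 1) - 1) ^ m < d ^ (2 * m - 4)) :
    PW p m (SpecialLinearGroup (Fin e) F) := by
  obtain ⟨K, _, _, ⟨b⟩⟩ := exists_ext (F := F) (n := e) (by omega)
  obtain ⟨z, hz1, hz2, hz3⟩ := exists_order_elt b (by omega) hp hd hmin
  have h1 := card_centralizer_sing_le b z hz1 hz3
  have h2 : PE p 1 (sing b z hz1) := (isPE_sing b hz1 (k := 1) (by rw [pow_one]; exact hz2)).pe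
  have h3 := PW.of_pe (perfect_SL he) h2 hdeg hm (lt_of_small (Nat.sub_le_sub_right h1 1) hb)
  rwa [one_mul] at h3

/-- `SL_e(F) = A^5`. -/
theorem pw_SL_of_order [Finite F] {p e : ℕ} (hp : p.Prime) (he : 3 ≤ e) (hd : p ∣ Nat.card F ^ e - 1)
    (hmin : ∀ i, 0 < i → i < e → ¬ p ∣ Nat.card F ^ i - 1)
    (hex : ¬ (e = 3 ∧ Nat.card F = 2) ∧ ¬ (e = 4 ∧ Nat.card F = 2)) : PW p 5 (SpecialLinearGroup (Fin e) F) := by
  have hq : 1 < Nat.card F := Finite.one_lt_card
  by_cases h34 : e = 3 ∧ Nat.card F = 4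
  · obtain ⟨rfl, h4⟩ := h34
    refine pw_SL_of_bound hp le_rfl hd hmin (by norm_num) (minDeg_SL le_rfl) ?_
    rw [h4]; norm_num
  by_cases h43 : e = 4 ∧ Nat.card F = 3
  · obtain ⟨rfl, h3⟩ := h43
    refine pw_SL_of_bound hp he hd hmin (by norm_num) (minDeg_SL he) ?_
    rw [h3]; norm_num
  refine pw_SL_of_bound hp he hd hmin (by norm_num) (minDeg_SL' he ⟨?_, ?_, ?_, ?_⟩) ?_
  · intro h; rw [Prod.mk.injEq] at h; exact hex.1 h
  · intro h; rw [Prod.mk.injEq] at h; exact h34 h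
  · intro h; rw [Prod.mk.injEq] at h; exact hex.2 h
  · intro h; rw [Prod.mk.injEq] at h; exact h43 h
  · rw [geom_succ hq (by omega), Nat.add_sub_cancel]
    refine Nat.pow_lt_pow_right ?_ (by norm_num)
    -- `d ≥ 2`
    rw [Nat.lt_iff_add_one_le, Nat.le_div_iff_mul_le (by omega)]
    have h1 : Nat.card F ^ 3 ≤ Nat.card F ^ e := Nat.pow_le_pow_right (by omega) he
    have h2 : (1 + 1) * (Nat.card F - 1) + Nat.card F ≤ Nat.card F ^ 3 := by
      obtain ⟨k, hk⟩ := Nat.exists_eq_add_of_lt hq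
      rw [hk]
      have h3 : (1 + k + 1) ^ 3 = (1 + 1) * (k + 1) + (k + 2) + (k ^ 3 + 6 * k ^ 2 + 9 * k + 4) := by ring
      have h4 : 1 + k + 1 - 1 = k + 1 := by omega
      rw [h3, h4]
      omega
    omega

/-- K for `SL_(k+1)(q)` with a block element of order a power of `p`. -/
theorem pw_SL_of_blk [Finite F] {p k m d : ℕ} {K : Type*} [Field K] [Algebra F K] (b : Module.Basis (Fin k) F K)
    (hk : 2 ≤ k) {z : K} (hz0 : z ≠ 0) (hz : Algebra.adjoin F {z} = ⊤) {j : ℕ} (hord : orderOf z = p ^ j) (hm : 3 ≤ m)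
    (hdeg : MinDeg (SpecialLinearGroup (Fin (k + 1)) F) d) (hb : (Nat.card F ^ k - 1 - 1) ^ m < d ^ (2 * m - 4)) :
    PW p m (SpecialLinearGroup (Fin (k + 1)) F) := by
  have h3 := PW.of_pe (perfect_SL (F := F) (n := k + 1) (by omega)) (isPE_blk b hz0 hord).pe hdeg hm
    (lt_of_small (Nat.sub_le_sub_right (card_centralizer_blk_le b hk hz0 hz) 1) hb)
  rwa [one_mul] at h3

/-- the same with `z` of order `p`, `k` the order of `q` modulo `p`. -/
theorem pw_SL_succ [Finite F] {p k m : ℕ} (hp : p.Prime) (hk : 2 ≤ k) (hd : p ∣ Nat.card F ^ k - 1)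
    (hmin : ∀ i, 0 < i → i < k → ¬ p ∣ Nat.card F ^ i - 1) (hm : 3 ≤ m)
    (hb : (Nat.card F ^ k - 1 - 1) ^ m < (Nat.card F ^ k - 1) ^ (2 * m - 4)) :
    PW p m (SpecialLinearGroup (Fin (k + 1)) F) := by
  obtain ⟨K, _, _, ⟨b⟩⟩ := exists_ext (F := F) (n := k) (by omega)
  have := finite_ext b
  obtain ⟨z, hz1, hz2, hz3⟩ := exists_order_elt b hk hp hd hmin
  have hz0 : z ≠ 0 := by
    rintro rfl
    rw [orderOf_zero] at hz2
    exact hp.ne_zero hz2.symm
  exact pw_SL_of_blk b hk hz0 hz3 (j := 1) (by rw [pow_one]; exact hz2) hm (minDeg_SL (by omega)) hb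

/-- `SL_3(3)` and `2`-elements -/
theorem pw_SL33 [Finite F] (hF : Nat.card F = 3) : PW 2 4 (SpecialLinearGroup (Fin 3) F) := by
  obtain ⟨K, _, _, ⟨b⟩⟩ := exists_ext (F := F) (n := 2) (by omega)
  have := finite_ext b
  obtain ⟨g, hg⟩ := IsCyclic.exists_generator (α := Kˣ)
  have hord : orderOf g = 8 := by
    rw [orderOf_eq_card_of_forall_mem_zpowers hg, Nat.card_units, card_ext b, hF]
    norm_num
  have h1 : orderOf (g : K) = 2 ^ 3 := by rw [orderOf_units, hord]; norm_num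
  refine pw_SL_of_blk b le_rfl g.ne_zero ?_ h1 (by norm_num) (minDeg_SL le_rfl) ?_
  · refine adjoin_eq_top b g.ne_zero ?_
    rw [h1, hF]; norm_num
  · rw [hF]; norm_num

/-- the case split: `p` divides `|SL_n(q)|`. -/
theorem exists_order_of_dvd [Finite F] {p n : ℕ} (hp : p.Prime) (hn : 1 ≤ n)
    (hd : p ∣ Nat.card (SpecialLinearGroup (Fin n) F)) :
    CharP F p ∨ ∃ e, 1 ≤ e ∧ e ≤ n ∧ p ∣ Nat.card F ^ e - 1 ∧ ∀ i, 0 < i → i < e → ¬ p ∣ Nat.card F ^ i - 1 := by
  classical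
  have := Fintype.ofFinite F
  have h1 : p ∣ ∏ i : Fin n, (Nat.card F ^ n - Nat.card F ^ (i : ℕ)) := by
    rw [← S0242.result (F := F) Nat.card_eq_fintype_card.symm n hn]
    exact dvd_mul_of_dvd_right hd _
  obtain ⟨i, -, hi⟩ := (Prime.dvd_finsetProd_iff hp.prime _).1 h1
  have h2 : Nat.card F ^ n - Nat.card F ^ (i : ℕ) = Nat.card F ^ (i : ℕ) * (Nat.card F ^ (n - i) - 1) := by
    rw [Nat.mul_sub, mul_one, ← pow_add]
    congr 2
    have := i.2
    omega
  rw [h2, hp.dvd_mul] at hi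
  rcases hi with hi | hi
  · left
    have h3 : p ∣ Nat.card F := hp.dvd_of_dvd_pow hi
    obtain ⟨r, hr⟩ := CharP.exists F
    have hrp : r.Prime := CharP.char_is_prime F r
    obtain ⟨k, -, hk⟩ := FiniteField.card F r
    rw [Nat.card_eq_fintype_card, hk] at h3
    have h4 : p = r := (Nat.prime_dvd_prime_iff_eq hp hrp).1 (hp.dvd_of_dvd_pow h3)
    rw [h4]; exact hr
  · right
    have hex : ∃ e, 1 ≤ e ∧ p ∣ Nat.card F ^ e - 1 := ⟨n - i, by have := i.2; omega, hi⟩
    refine ⟨Nat.find hex, (Nat.find_spec hex).1, ?_, (Nat.find_spec hex).2, fun j hj hj2 hj3 => ?_⟩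
    · exact (Nat.find_min' hex ⟨by have := i.2; omega, hi⟩).trans (Nat.sub_le _ _)
    · exact Nat.find_min hex hj2 ⟨hj, hj3⟩

theorem NonDiag.ns {M : SpecialLinearGroup (Fin 2) F} (h : NonDiag M) : NS M := by
  obtain ⟨i, j, hij, h1⟩ := h
  intro c hc
  apply h1
  rw [hc, Matrix.smul_apply, one_apply_ne hij, smul_zero]

section F2

/-- order 7 in `SL_3(2)` -/
def A7 : SpecialLinearGroup (Fin 3) (ZMod 2) := ⟨!![0, 1, 0; 0, 0, 1; 1, 0, 1], by decide⟩
def B7 : SpecialLinearGroup (Fin 3) (ZMod 2) := ⟨!![1, 1, 0; 0, 0, 1; 1, 0, 0], by decide⟩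
def B7' : SpecialLinearGroup (Fin 3) (ZMod 2) := ⟨!![1, 1, 0; 0, 0, 1; 1, 0, 1], by decide⟩
def C7 (a b : ZMod 2) : SpecialLinearGroup (Fin 3) (ZMod 2) :=
  ⟨!![0, 0, 1; 1, 0, a; 0, 1, b], by revert a b; decide⟩

theorem A7_pow : A7 ^ 7 = 1 := by decide
theorem B7_pow : B7 ^ 7 = 1 := by decide
theorem B7'_pow : B7' ^ 7 = 1 := by decide
theorem C7_pow : C7 1 0 ^ 7 = 1 := by decide
theorem C7_pow' : C7 0 1 ^ 7 = 1 := by decide
theorem C7_eq : C7 0 0 = A7 * B7 := by decide
theorem C7_eq' : C7 1 1 = A7 * B7' := by decide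

theorem isPE_of_pow7 {x : SpecialLinearGroup (Fin 3) (ZMod 2)} (h : x ^ 7 = 1) : IsPE 7 x := ⟨1, by rw [pow_one]; exact h⟩

theorem pe_C7 (a b : ZMod 2) : PE 7 2 (C7 a b) := by
  have ha : a = 0 ∨ a = 1 := by revert a; decide
  have hb : b = 0 ∨ b = 1 := by revert b; decide
  rcases ha with rfl | rfl <;> rcases hb with rfl | rfl
  · rw [C7_eq]; exact (isPE_of_pow7 A7_pow).pe.mul (isPE_of_pow7 B7_pow).pe
  · exact (isPE_of_pow7 C7_pow').pe.mono (by norm_num)
  · exact (isPE_of_pow7 C7_pow).pe.mono (by norm_num)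
  · rw [C7_eq']; exact (isPE_of_pow7 A7_pow).pe.mul (isPE_of_pow7 B7'_pow).pe

theorem pe_comp_7 [Finite F] (hF : Nat.card F = 2) (c : ℕ → F) (h : (comp 3 c).det = 1) : PE 7 2 (compSL 3 c h) := by
  classical
  have := Fintype.ofFinite F
  have hch : CharP F 2 := by
    obtain ⟨r, hr⟩ := CharP.exists F
    have hrp : r.Prime := CharP.char_is_prime F r
    obtain ⟨k, -, hk⟩ := FiniteField.card F r
    rw [← Nat.card_eq_fintype_card, hF] at hk
    have h4 : r ∣ 2 := hk ▸ dvd_pow_self r k.ne_zero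
    have h5 : r = 2 := (Nat.prime_dvd_prime_iff_eq hrp Nat.prime_two).1 h4
    rw [← h5]; exact hr
  have h01 : ∀ x : F, x = 0 ∨ x = 1 := by
    intro x
    by_contra hcon
    push Not at hcon
    have h3 : ({0, 1, x} : Finset F).card ≤ Fintype.card F := Finset.card_le_univ _
    rw [Finset.card_insert_of_notMem (by simp [hcon.1.symm]), Finset.card_insert_of_notMem (by simp [hcon.2.symm]),
      Finset.card_singleton, ← Nat.card_eq_fintype_card, hF] at h3
    omega
  let f : ZMod 2 →+* F := ZMod.castHom (dvd_refl 2) F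
  have hf : ∀ x : F, ∃ a : ZMod 2, f a = x := by
    intro x
    rcases h01 x with rfl | rfl
    · exact ⟨0, map_zero f⟩
    · exact ⟨1, map_one f⟩
  have h0 : c 0 = 1 := by
    have h2 := det_comp 2 c
    rw [h] at h2
    have h3 := h2
    rw [neg_one_sq, one_mul] at h3
    exact h3.symm
  obtain ⟨a, ha⟩ := hf (c 1)
  obtain ⟨b, hb⟩ := hf (c 2)
  have h6 : compSL 3 c h = SpecialLinearGroup.map f (C7 a b) := by
    apply Subtype.ext
    ext i j
    show comp 3 c i j = f ((C7 a b).1 i j)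
    rw [comp_apply]
    fin_cases i <;> fin_cases j <;> simp [C7, h0, ha, hb]
  rw [h6]
  exact (pe_C7 a b).map _

end F2

/-- **RESULT W**, companion matrices. -/
theorem pe_compSL [Finite F] {p n : ℕ} (hp : p.Prime) (hn : 3 ≤ n)
    (hd : p ∣ Nat.card (SpecialLinearGroup (Fin n) F)) (c : ℕ → F) (h : (comp n c).det = 1) :
    PE p 10 (compSL n c h) := by
  have hq : 1 < Nat.card F := Finite.one_lt_card
  rcases exists_order_of_dvd hp (by omega) hd with hch | ⟨e, he1, hen, hde, hmin⟩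
  · exact (pe_comp (p := p) (m := 3) le_rfl (fun M hM => pe_three_char M hM.ns) (by omega) c h).mono (by norm_num)
  rcases Nat.lt_or_ge 2 e with he | he
  · by_cases h32 : e = 3 ∧ Nat.card F = 2
    · obtain ⟨rfl, h2⟩ := h32
      have h7 : p = 7 := by
        rw [h2] at hde
        exact (Nat.prime_dvd_prime_iff_eq hp (by norm_num)).1 (by simpa using hde)
      subst h7
      rcases Nat.lt_or_ge 3 n with h4 | h4
      · refine (pe_comp (p := 7) (m := 4) (w := 4) (by norm_num) (fun M _ => ?_) h4 c h).mono (by norm_num)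
        refine pw_SL_succ (k := 3) hp (by norm_num) hde hmin (by norm_num) ?_ M
        rw [h2]; norm_num
      · obtain rfl : n = 3 := by omega
        exact (pe_comp_7 h2 c h).mono (by norm_num)
    by_cases h42 : e = 4 ∧ Nat.card F = 2
    · obtain ⟨rfl, h2⟩ := h42
      rcases Nat.lt_or_ge 4 n with h4 | h4
      · refine (pe_comp (p := p) (m := 4) (w := 5) (by norm_num) (fun M _ => ?_) h4 c h).mono (by norm_num)
        refine pw_SL_succ (k := 4) hp (by norm_num) hde hmin (by norm_num) ?_ M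
        rw [h2]; norm_num
      · obtain rfl : n = 4 := by omega
        have := pw_SL_of_bound (F := F) (m := 7) hp (by norm_num) hde hmin (by norm_num) (minDeg_SL (by norm_num)) (by
          rw [h2]; norm_num)
        exact (this _).mono (by norm_num)
    · exact pe_comp (p := p) (m := 5) (w := e) (by omega) (fun M _ => pw_SL_of_order hp he hde hmin ⟨h32, h42⟩ M) hen c h
  · have hd2 : p ∣ Nat.card F ^ 2 - 1 := by
      rcases (by omega : e = 1 ∨ e = 2) with rfl | rfl
      · refine hde.trans ?_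
        simpa using Nat.sub_dvd_pow_sub_pow (Nat.card F) 1 2
      · exact hde
    rcases Nat.lt_or_ge (Nat.card F) 4 with h4 | h4
    · rcases (by omega : Nat.card F = 2 ∨ Nat.card F = 3) with h2 | h3
      · have h3 : p = 3 := by
          rw [h2] at hd2
          exact (Nat.prime_dvd_prime_iff_eq hp (by norm_num)).1 (by simpa using hd2)
        subst h3
        refine (pe_comp (p := 3) (m := 3) (w := 3) (by norm_num) (fun M _ => ?_) hn c h).mono (by norm_num)
        refine pw_SL_succ (k := 2) hp (by norm_num) hd2 (fun i hi hi2 => ?_) (by norm_num) ?_ M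
        · obtain rfl : i = 1 := by omega
          rw [h2]; norm_num
        · rw [h2]; norm_num
      · have h2 : p = 2 := by
          rw [h3] at hd2
          have h8 : p ∣ 2 ^ 3 := by simpa using hd2
          exact (Nat.prime_dvd_prime_iff_eq hp (by norm_num)).1 (hp.dvd_of_dvd_pow h8)
        subst h2
        exact (pe_comp (p := 2) (m := 4) (w := 3) (by norm_num) (fun M _ => pw_SL33 h3 M) hn c h).mono (by norm_num)
    · exact (pe_comp (p := p) (m := 3) le_rfl (fun M hM => pe_three_of_nonscalar hp (Or.inr ⟨hd2, h4⟩) M hM.ns)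
        (by omega) c h).mono (by norm_num)

/-- **RESULT W**, elements with a cyclic vector. -/
theorem pe_cyclic [Finite F] {p n : ℕ} (hp : p.Prime) (hn : 3 ≤ n)
    (hd : p ∣ Nat.card (SpecialLinearGroup (Fin n) F)) (y : SpecialLinearGroup (Fin n) F) (v : Fin n → F)
    (hv : LinearIndependent F fun i : Fin n => (y.1 ^ (i : ℕ)) *ᵥ v) : PE p 10 y :=
  pe_of_cyclic (fun c h => pe_compSL hp hn hd c h) y v hv

/-- **RESULT W**, Singer elements. -/
theorem pe_sing [Finite F] {p n : ℕ} (hp : p.Prime) (hn : 3 ≤ n)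
    (hd : p ∣ Nat.card (SpecialLinearGroup (Fin n) F)) {K : Type*} [Field K] [Algebra F K]
    (b : Module.Basis (Fin n) F K) (z : K) (h : Algebra.norm F z = 1) (hz : Algebra.adjoin F {z} = ⊤) :
    PE p 10 (sing b z h) :=
  pe_sing_of_comp (fun c h => pe_compSL hp hn hd c h) b z h hz

end Cfsg.Agent.H514.DP
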