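import Mathlib
import Cfsg.Agent.H514.DP.SLRes
import Cfsg.Prelude.Def_LieTypeChar

/-!
# `PSL_n(q)` is a product of seventy `p`-elements (S2454)
-/

set_option autoImplicit false
set_option linter.unusedSectionVars false

namespace Cfsg.Agent.H514.DP

open Matrix Subgroup

section F2

theorem C7_zero : compSL 3 (fun i => if i = 0 then (1 : ZMod 2) else 0) (by decide) = C7 0 0 := by decide

theorem cent_key : ∀ a b c : ZMod 2, a * a * a - a * b * c - b * c * a + b * b * b + c * c * c - c * a * b = 1 →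
    (a = 1 ∧ b = 0 ∧ c = 0) ∨ (a = 0 ∧ b = 1 ∧ c = 0) ∨ (a = 0 ∧ b = 0 ∧ c = 1) := by decide

theorem cent_C7 (g : SpecialLinearGroup (Fin 3) (ZMod 2)) (hg : g * C7 0 0 = C7 0 0 * g) :
    g = 1 ∨ g = C7 0 0 ∨ g = C7 0 0 * C7 0 0 := by
  have h1 : g.1 * (C7 0 0).1 = (C7 0 0).1 * g.1 := congrArg Subtype.val hg
  have h2 := g.2
  have h3 : ∀ i j, (g.1 * (C7 0 0).1) i j = ((C7 0 0).1 * g.1) i j := fun i j => by rw [h1]
  simp only [C7, Matrix.mul_apply, Fin.sum_univ_three] at h3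
  have a1 := h3 0 0
  have a2 := h3 0 1
  have a3 := h3 0 2
  have a4 := h3 1 0
  have a5 := h3 1 1
  have a6 := h3 1 2
  simp at a1 a2 a3 a4 a5 a6
  rw [det_fin_three, a5, a6, a4, ← a3, ← a1, ← a2] at h2
  have hm : g.1 = !![g.1 0 0, g.1 0 1, g.1 0 2; g.1 0 2, g.1 0 0, g.1 0 1; g.1 0 1, g.1 0 2, g.1 0 0] := by
    ext i j
    fin_cases i <;> fin_cases j <;> simp [← a1, ← a2, ← a3, a4, a5, a6]
  rcases cent_key _ _ _ h2 with ⟨x, y, z⟩ | ⟨x, y, z⟩ | ⟨x, y, z⟩
  · left
    apply Subtype.ext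
    rw [hm, x, y, z]
    decide
  · right; right
    apply Subtype.ext
    rw [hm, x, y, z]
    decide
  · right; left
    apply Subtype.ext
    rw [hm, x, y, z]
    decide

theorem card_cent_C7 : Nat.card (centralizer ({C7 0 0} : Set (SpecialLinearGroup (Fin 3) (ZMod 2)))) ≤ 3 := by
  classical
  have h1 : (centralizer ({C7 0 0} : Set (SpecialLinearGroup (Fin 3) (ZMod 2))) : Set (SpecialLinearGroup (Fin 3) (ZMod 2))) ⊆
      (({1, C7 0 0, C7 0 0 * C7 0 0} : Finset (SpecialLinearGroup (Fin 3) (ZMod 2))) : Set (SpecialLinearGroup (Fin 3) (ZMod 2))) := by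
    intro g hg
    rw [SetLike.mem_coe, mem_centralizer_singleton_iff] at hg
    rcases cent_C7 g hg with h | h | h <;> simp [h]
  calc Nat.card (centralizer ({C7 0 0} : Set (SpecialLinearGroup (Fin 3) (ZMod 2))))
      = (centralizer ({C7 0 0} : Set (SpecialLinearGroup (Fin 3) (ZMod 2))) : Set (SpecialLinearGroup (Fin 3) (ZMod 2))).ncard :=
        Nat.card_coe_set_eq _
    _ ≤ _ := Set.ncard_le_ncard h1 (Finset.finite_toSet _)
    _ ≤ 3 := by
      rw [Set.ncard_coe_finset]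
      exact Finset.card_le_three

theorem pw_SL32_aux {p : ℕ} (hp : p.Prime) (hd : p ∣ Nat.card (SpecialLinearGroup (Fin 3) (ZMod 2))) :
    PW p 30 (SpecialLinearGroup (Fin 3) (ZMod 2)) := by
  have h1 : PE p 10 (C7 0 0) := by
    rw [← C7_zero]
    exact pe_compSL hp le_rfl hd _ _
  have h2 := minDeg_SL (F := ZMod 2) (n := 3) le_rfl
  have h3 := PW.of_pe (perfect_SL (F := ZMod 2) (n := 3) le_rfl) (k := 3) h1 h2 le_rfl (by
    refine lt_of_small (Nat.sub_le_sub_right card_cent_C7 1) ?_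
    rw [Nat.card_zmod]; norm_num)
  exact h3

theorem pw_SL32 {F : Type*} [Field F] [Finite F] (hF : Nat.card F = 2) {p : ℕ} (hp : p.Prime)
    (hd : p ∣ Nat.card (SpecialLinearGroup (Fin 3) F)) : PW p 30 (SpecialLinearGroup (Fin 3) F) := by
  have := Fintype.ofFinite F
  rw [Nat.card_eq_fintype_card] at hF
  let e : ZMod 2 ≃+* F := ZMod.ringEquivOfPrime F Nat.prime_two hF
  let f : SpecialLinearGroup (Fin 3) (ZMod 2) ≃* SpecialLinearGroup (Fin 3) F :=
    { toFun := SpecialLinearGroup.map (e : ZMod 2 →+* F)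
      invFun := SpecialLinearGroup.map (e.symm : F →+* ZMod 2)
      left_inv := by
        intro g
        apply Subtype.ext
        ext i j
        simp
      right_inv := by
        intro g
        apply Subtype.ext
        ext i j
        simp
      map_mul' := map_mul _ }
  have h1 := Nat.card_congr f.toEquiv
  exact (pw_SL32_aux hp (by rw [h1]; exact hd)).congr f

end F2

variable {F : Type*} [Field F]

/-- **`SL_n(q)`, `n ≥ 3`, is a product of seventy `p`-elements** for every prime divisor of its order. -/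
theorem pw_SL [Finite F] {p n : ℕ} (hp : p.Prime) (hn : 3 ≤ n) (hd : p ∣ Nat.card (SpecialLinearGroup (Fin n) F)) :
    PW p 70 (SpecialLinearGroup (Fin n) F) := by
  have hq : 1 < Nat.card F := Finite.one_lt_card
  by_cases h32 : n = 3 ∧ Nat.card F = 2
  · obtain ⟨rfl, h2⟩ := h32
    exact (pw_SL32 h2 hp hd).mono (by norm_num)
  obtain ⟨K, _, _, ⟨b⟩⟩ := exists_ext (F := F) (n := n) (by omega)
  obtain ⟨z, hz1, -, hz3⟩ := exists_singer_norm_one b (by omega)
  have h1 := card_centralizer_sing_le b z hz1 hz3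
  have h2 : PE p 10 (sing b z hz1) := pe_sing hp hn hd b z hz1 hz3
  have key : ∀ {k d : ℕ}, 3 ≤ k → k ≤ 7 → MinDeg (SpecialLinearGroup (Fin n) F) d →
      ((Nat.card F ^ n - 1) / (Nat.card F - 1) - 1) ^ k < d ^ (2 * k - 4) → PW p 70 (SpecialLinearGroup (Fin n) F) := by
    intro k d hk hk7 hdeg hb
    exact (PW.of_pe (perfect_SL hn) h2 hdeg hk (lt_of_small (Nat.sub_le_sub_right h1 1) hb)).mono (by omega)
  by_cases h34 : n = 3 ∧ Nat.card F = 4
  · obtain ⟨rfl, h4⟩ := h34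
    refine key (k := 5) (by norm_num) (by norm_num) (minDeg_SL hn) ?_
    rw [h4]; norm_num
  by_cases h42 : n = 4 ∧ Nat.card F = 2
  · obtain ⟨rfl, h4⟩ := h42
    refine key (k := 7) (by norm_num) (by norm_num) (minDeg_SL hn) ?_
    rw [h4]; norm_num
  by_cases h43 : n = 4 ∧ Nat.card F = 3
  · obtain ⟨rfl, h4⟩ := h43
    refine key (k := 5) (by norm_num) (by norm_num) (minDeg_SL hn) ?_
    rw [h4]; norm_num
  refine key (k := 5) (by norm_num) (by norm_num) (minDeg_SL' hn ⟨?_, ?_, ?_, ?_⟩) ?_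
  · intro h; rw [Prod.mk.injEq] at h; exact h32 h
  · intro h; rw [Prod.mk.injEq] at h; exact h34 h
  · intro h; rw [Prod.mk.injEq] at h; exact h42 h
  · intro h; rw [Prod.mk.injEq] at h; exact h43 h
  · rw [geom_succ hq (by omega), Nat.add_sub_cancel]
    refine Nat.pow_lt_pow_right ?_ (by norm_num)
    rw [Nat.lt_iff_add_one_le, Nat.le_div_iff_mul_le (by omega)]
    have h1 : Nat.card F ^ 3 ≤ Nat.card F ^ n := Nat.pow_le_pow_right (by omega) hn
    have h2 : (1 + 1) * (Nat.card F - 1) + Nat.card F ≤ Nat.card F ^ 3 := by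
      obtain ⟨k, hk⟩ := Nat.exists_eq_add_of_lt hq
      rw [hk]
      have h3 : (1 + k + 1) ^ 3 = (1 + 1) * (k + 1) + (k + 2) + (k ^ 3 + 6 * k ^ 2 + 9 * k + 4) := by ring
      have h4 : 1 + k + 1 - 1 = k + 1 := by omega
      rw [h3, h4]
      omega
    omega

/-- `PSL_2(q)`, `q ≥ 4`. -/
theorem pw_PSL2 [Finite F] (hq : 4 ≤ Nat.card F) {p : ℕ} (hp : p.Prime)
    (hd : p ∣ Nat.card (ProjectiveSpecialLinearGroup (Fin 2) F)) : PW p 3 (ProjectiveSpecialLinearGroup (Fin 2) F) := by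
  have hd' : p ∣ Nat.card (SpecialLinearGroup (Fin 2) F) := hd.trans (Subgroup.card_quotient_dvd_card _)
  have h1 : CharP F p ∨ (p ∣ Nat.card F ^ 2 - 1 ∧ 4 ≤ Nat.card F) := by
    rcases exists_order_of_dvd hp (by omega) hd' with hch | ⟨e, he1, hen, hde, -⟩
    · exact Or.inl hch
    · refine Or.inr ⟨?_, hq⟩
      rcases (by omega : e = 1 ∨ e = 2) with rfl | rfl
      · refine hde.trans ?_
        simpa using Nat.sub_dvd_pow_sub_pow (Nat.card F) 1 2
      · exact hde
  intro g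
  obtain ⟨M, rfl⟩ := QuotientGroup.mk_surjective g
  by_cases hM : ∃ c : F, M.1 = c • (1 : Matrix (Fin 2) (Fin 2) F)
  · have h2 : (M : ProjectiveSpecialLinearGroup (Fin 2) F) = 1 := by
      rw [QuotientGroup.eq_one_iff, Matrix.SpecialLinearGroup.mem_center_iff]
      obtain ⟨c, hc⟩ := hM
      have h3 := M.2
      rw [hc, det_smul, det_one, mul_one] at h3
      refine ⟨c, h3, ?_⟩
      rw [hc, smul_one_eq_diagonal]
      rfl
    rw [h2]
    exact pe_one_elt 3
  · push Not at hM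
    exact (pe_three_of_nonscalar hp h1 M hM).map (QuotientGroup.mk' _)

/-- **`PSL_n(q)`.** -/
theorem pw_PSL [Finite F] {p n : ℕ} (hp : p.Prime) (hn : 2 ≤ n) (hq : n = 2 → 4 ≤ Nat.card F)
    (hd : p ∣ Nat.card (ProjectiveSpecialLinearGroup (Fin n) F)) : PW p 70 (ProjectiveSpecialLinearGroup (Fin n) F) := by
  rcases (by omega : n = 2 ∨ 3 ≤ n) with rfl | h3
  · exact (pw_PSL2 (hq rfl) hp hd).mono (by norm_num)
  · exact (pw_SL hp h3 (hd.trans (Subgroup.card_quotient_dvd_card _))).map (QuotientGroup.mk' _)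
      (QuotientGroup.mk'_surjective _)

/-- **The row `PSL_n(q)` of S2454.** -/
theorem pw_psl {S : Type*} [Group S] [Finite S] [IsSimpleGroup S] {l : ℕ} (h : IsPSLChar l S) {p : ℕ} (hp : p.Prime)
    (hd : p ∣ Nat.card S) : PW p 70 S := by
  obtain ⟨F, _, _, _, n, hn, hq, ⟨e⟩⟩ := h
  refine PW.congr (pw_PSL hp hn (fun h => ?_) ?_) e.symm
  · rw [Nat.card_eq_fintype_card]; exact hq h
  · rw [← Nat.card_congr e.toEquiv]; exact hd

end Cfsg.Agent.H514.DP
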